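import Mathlib
import Cfsg.Agent.Lib.H2.Zass1

/-!
# Zassenhaus groups: the kernel of a point stabilizer and the order of the group
-/

set_option autoImplicit false
set_option linter.unusedSectionVars false

namespace Cfsg.Agent.Lib.H4.Zas

open MulAction Cfsg Cfsg.Agent.Lib.H2.Zass

variable {G Ω : Type*} [Group G] [MulAction G Ω] (hP : Pre G Ω) [Finite Ω]

theorem K_conj_mem (a : Ω) {g u : G} (hg : g • a = a) (hu : u ∈ K hP a) :
    g * u * g⁻¹ ∈ K hP a := by
  rw [mem_K_iff] at hu ⊢
  have hginv : g⁻¹ • a = a := by rw [inv_smul_eq_iff, hg]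
  refine ⟨by rw [mul_smul, mul_smul, hginv, hu.1, hg], ?_⟩
  rcases hu.2 with h1 | h1
  · left
    rw [h1]
    group
  · right
    intro y hy hfix
    apply h1 (g⁻¹ • y)
    · intro h
      apply hy
      rw [inv_smul_eq_iff, hg] at h
      exact h
    · rw [mul_smul, mul_smul] at hfix
      exact (smul_eq_iff_eq_inv_smul g).1 hfix

theorem K_eq_one_of_fix (a : Ω) {u : G} (hu : u ∈ K hP a) {y : Ω} (hy : y ≠ a)
    (hfix : u • y = y) : u = 1 := by
  rcases ((mem_K_iff hP a u).1 hu).2 with h1 | h1
  · exact h1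
  · exact absurd hfix (h1 y hy)

theorem K_eq_of_smul_eq (a : Ω) {u v : G} (hu : u ∈ K hP a) (hv : v ∈ K hP a) {y : Ω}
    (hy : y ≠ a) (h : u • y = v • y) : u = v := by
  have h1 : (v⁻¹ * u) • y = y := by rw [mul_smul, h, inv_smul_smul]
  have h2 := K_eq_one_of_fix hP a ((K hP a).mul_mem ((K hP a).inv_mem hv) hu) hy h1
  exact (inv_mul_eq_one.1 h2).symm

theorem K_smul_ne (a : Ω) {u : G} (hu : u ∈ K hP a) {y : Ω} (hy : y ≠ a) : u • y ≠ a := by
  intro h
  apply hy
  have hua : u • a = a := K_le_stabilizer hP a hu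
  exact smul_left_cancel u (h.trans hua.symm)

/-- the decomposition of the elements of a point stabilizer -/
theorem exists_K_mul (a b : Ω) (hab : a ≠ b) {g : G} (hg : g • a = a) :
    ∃ u ∈ K hP a, ∃ h : G, h • a = a ∧ h • b = b ∧ g = u * h := by
  have hgb : g • b ≠ a := by
    intro h
    exact hab (smul_left_cancel g (hg.trans h.symm))
  obtain ⟨u, hu, hub⟩ := K_transitive hP a (Ne.symm hab) hgb
  have hua : u • a = a := K_le_stabilizer hP a hu
  refine ⟨u, hu, u⁻¹ * g, ?_, ?_, by group⟩
  · rw [mul_smul, hg, inv_smul_eq_iff, hua]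
  · rw [mul_smul, ← hub, inv_smul_smul]

include hP in
/-- the order of the group -/
theorem card_eq [Finite G] (a b : Ω) (hab : a ≠ b) :
    Nat.card G = Nat.card Ω * (Nat.card Ω - 1) *
      Nat.card ↥(stabilizer G a ⊓ stabilizer G b) := by
  classical
  haveI : IsPretransitive G Ω := by
    refine ⟨fun x y => ?_⟩
    by_cases hxy : x = y
    · exact ⟨1, by rw [one_smul, hxy]⟩
    · obtain ⟨g, hg, -⟩ := hP.two x y y x hxy (Ne.symm hxy)
      exact ⟨g, hg⟩
  have h1 : (stabilizer G a).index = Nat.card Ω := index_stabilizer_of_transitive G a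
  have h2 : (stabilizer (stabilizer G a) b).index = Nat.card Ω - 1 := by
    rw [index_stabilizer]
    have : orbit (stabilizer G a) b = {x : Ω | x ≠ a} := by
      ext x
      constructor
      · rintro ⟨g, rfl⟩
        intro h
        have h3 : (g : G) • b = a := h
        have h4 : (g : G) • a = a := g.2
        exact hab (smul_left_cancel (g : G) (h4.trans h3.symm))
      · intro hx
        obtain ⟨g, hga, hgb⟩ := hP.two a b a x hab (Ne.symm hx)
        exact ⟨⟨g, hga⟩, hgb⟩
    rw [this]
    have h5 : {x : Ω | x ≠ a} = ({a} : Set Ω)ᶜ := by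
      ext x
      simp
    rw [h5]
    have := Set.ncard_compl_add_ncard ({a} : Set Ω)
    rw [Set.ncard_singleton] at this
    omega
  have h3 : stabilizer (stabilizer G a) b = (stabilizer G b).subgroupOf (stabilizer G a) := by
    ext g
    rw [mem_stabilizer_iff, Subgroup.mem_subgroupOf, mem_stabilizer_iff]
    rfl
  have h4 : (stabilizer G a ⊓ stabilizer G b).relIndex (stabilizer G a) = Nat.card Ω - 1 := by
    rw [Subgroup.inf_relIndex_left, Subgroup.relIndex, ← h3, h2]
  have h5 := Subgroup.relIndex_mul_index (inf_le_left : stabilizer G a ⊓ stabilizer G b ≤ stabilizer G a)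
  rw [h4, h1] at h5
  rw [← Subgroup.index_mul_card (stabilizer G a ⊓ stabilizer G b), ← h5]
  ring

/-- the two point stabilizer acts semiregularly on the kernel -/
theorem eq_one_of_conj_eq (a b : Ω) (hab : a ≠ b) {h u : G} (ha : h • a = a) (hb : h • b = b)
    (hu : u ∈ K hP a) (hu1 : u ≠ 1) (hc : h * u * h⁻¹ = u) : h = 1 := by
  have hub : u • b ≠ b := fun e => hu1 (K_eq_one_of_fix hP a hu (Ne.symm hab) e)
  have hua : u • b ≠ a := K_smul_ne hP a hu (Ne.symm hab)
  have hfix : h • (u • b) = u • b := by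
    have : h * u = u * h := by
      have := congrArg (· * h) hc
      simpa using this
    rw [← mul_smul, this, mul_smul, hb]
  exact hP.three h a b (u • b) hab (Ne.symm hub) (Ne.symm hua) ha hb hfix

end Cfsg.Agent.Lib.H4.Zas
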