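import Mathlib
import Cfsg.Agent.Lib.H22.CyclicSylow

/-!
# A Z-group with a subgroup of index two and odd order all of whose Sylow subgroups are not
central in their normalizers
-/

set_option autoImplicit false

namespace Cfsg.Agent.Lib.H4.Zas

open Cfsg.Agent.Lib.H22

/-- an element normalizing a cyclic Sylow subgroup and centralizing one of its non-identity
elements centralizes it -/
theorem mem_centralizer_of_commute_ne_one {X : Type*} [Group X] [Finite X] {p : ℕ}
    [hp : Fact p.Prime] (P : Sylow p X) [IsCyclic P] {g y : X}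
    (hg : g ∈ Subgroup.normalizer ((P : Subgroup X) : Set X)) (hy : y ∈ P) (hy1 : y ≠ 1)
    (hgy : g * y = y * g) : g ∈ Subgroup.centralizer ((P : Subgroup X) : Set X) := by
  obtain ⟨x₀, hx₀⟩ := IsCyclic.exists_generator (α := ↥(P : Subgroup X))
  have hx : Subgroup.zpowers (x₀ : X) = (P : Subgroup X) := by
    apply le_antisymm
    · rw [Subgroup.zpowers_le]
      exact x₀.2
    · intro z hz
      obtain ⟨k, hk⟩ := Subgroup.mem_zpowers_iff.1 (hx₀ ⟨z, hz⟩)
      refine Subgroup.mem_zpowers_iff.2 ⟨k, ?_⟩
      have := congrArg Subtype.val hk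
      rwa [Subgroup.coe_zpow] at this
  have hconj : g * (x₀ : X) * g⁻¹ ∈ Subgroup.zpowers (x₀ : X) := by
    rw [hx]
    exact (Subgroup.mem_normalizer_iff.1 hg _).1 x₀.2
  obtain ⟨m, hm⟩ := Subgroup.mem_zpowers_iff.1 hconj
  have hyz : y ∈ Subgroup.zpowers (x₀ : X) := by rw [hx]; exact hy
  obtain ⟨j, hj⟩ := Subgroup.mem_zpowers_iff.1 hyz
  obtain ⟨n, hn⟩ := P.2.exists_card_eq
  have hord : orderOf (x₀ : X) = p ^ n := by
    rw [← Nat.card_zpowers, hx]; exact hn
  -- `x ^ (j * (m - 1)) = 1`
  have h1 : g * y * g⁻¹ = y := by rw [hgy]; group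
  have h2 : ((x₀ : X) ^ m) ^ j = (x₀ : X) ^ j := by
    rw [hm, conj_zpow, hj, h1]
  have h3 : (x₀ : X) ^ (j * (m - 1)) = 1 := by
    have : j * (m - 1) = m * j - j := by ring
    rw [this, zpow_sub, zpow_mul, h2, mul_inv_cancel]
  have h4 : ((p : ℤ) ^ n) ∣ j * (m - 1) := by
    have := orderOf_dvd_iff_zpow_eq_one.2 h3
    rw [hord] at this
    exact_mod_cast this
  have h5 : ¬ ((p : ℤ) ^ n) ∣ j := by
    intro h
    apply hy1
    rw [← hj]
    apply orderOf_dvd_iff_zpow_eq_one.1
    rw [hord]
    exact_mod_cast h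
  have h6 : (p : ℤ) ∣ m - 1 := by
    by_contra hcon
    apply h5
    have hcop : IsCoprime ((p : ℤ) ^ n) (m - 1) := by
      apply IsCoprime.pow_left
      exact (Nat.prime_iff_prime_int.1 hp.out).coprime_iff_not_dvd.2 hcon
    exact hcop.dvd_of_dvd_mul_right h4
  exact mem_centralizer_of_conj_zpow P hx hg hm.symm h6

variable {D : Type*} [Group D] [Finite D] [IsZGroup D]

/-- in a Z-group `D` with a subgroup `H` of index two and odd order whose Sylow subgroups are not
central in their normalizers, `H` is the commutator subgroup -/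
theorem commutator_eq_of_index_two (H : Subgroup D) (hidx : H.index = 2) (hodd : Odd (Nat.card H))
    (hN : ∀ r : ℕ, r.Prime → r ∣ Nat.card H → ∀ R : Sylow r D,
      ¬ (Subgroup.normalizer ((R : Subgroup D) : Set D) ≤
        Subgroup.centralizer ((R : Subgroup D) : Set D))) :
    commutator D = H := by
  classical
  haveI : H.Normal := Subgroup.normal_of_index_eq_two hidx
  have hcardD : Nat.card D = 2 * Nat.card H := by
    rw [← Subgroup.index_mul_card H, hidx]
  have hle : commutator D ≤ H := by
    have hq : Nat.card (D ⧸ H) = 2 := by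
      rw [← Subgroup.index_eq_card]; exact hidx
    haveI : Fact (Nat.Prime 2) := ⟨Nat.prime_two⟩
    haveI : IsCyclic (D ⧸ H) := isCyclic_of_prime_card hq
    letI : CommGroup (D ⧸ H) := IsCyclic.commGroup
    have := Abelianization.commutator_subset_ker (QuotientGroup.mk' H)
    rwa [QuotientGroup.ker_mk'] at this
  -- the order of `H` divides the order of the commutator subgroup
  have hdvd : Nat.card H ∣ Nat.card (commutator D) := by
    have hH0 : Nat.card H ≠ 0 := Nat.card_pos.ne'
    have hC0 : Nat.card (commutator D) ≠ 0 := Nat.card_pos.ne'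
    rw [← Nat.factorization_prime_le_iff_dvd hH0 hC0]
    intro r hr
    by_cases hrH : r ∣ Nat.card H
    · haveI : Fact r.Prime := ⟨hr⟩
      obtain ⟨R⟩ : Nonempty (Sylow r D) := inferInstance
      have hRle : (R : Subgroup D) ≤ commutator D := by
        rcases Sylow.normalizer_le_centralizer_or_le_commutator R with h | h
        · exact absurd h (hN r hr hrH R)
        · exact h
      have hRcard : Nat.card R = r ^ (Nat.card D).factorization r := R.card_eq_multiplicity
      have hr2 : r ≠ 2 := by
        rintro rfl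
        exact (Nat.not_even_iff_odd.2 hodd) (even_iff_two_dvd.2 hrH)
      have hfac : (Nat.card D).factorization r = (Nat.card H).factorization r := by
        rw [hcardD, Nat.factorization_mul (by norm_num) hH0]
        simp only [Finsupp.coe_add, Pi.add_apply]
        rw [Nat.factorization_eq_zero_of_not_dvd, zero_add]
        intro h2
        exact hr2 ((Nat.prime_dvd_prime_iff_eq hr Nat.prime_two).1 h2)
      have h3 : r ^ (Nat.card H).factorization r ∣ Nat.card (commutator D) := by
        rw [← hfac, ← hRcard]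
        exact Subgroup.card_dvd_of_le hRle
      exact (hr.pow_dvd_iff_le_factorization hC0).1 h3
    · rw [Nat.factorization_eq_zero_of_not_dvd hrH]
      exact Nat.zero_le _
  exact Subgroup.eq_of_le_of_card_ge hle (Nat.le_of_dvd Nat.card_pos hdvd)

/-- in the same situation no non-identity element of `H` is central -/
theorem eq_one_of_central (H : Subgroup D) (hN : ∀ r : ℕ, r.Prime → r ∣ Nat.card H →
      ∀ R : Sylow r D, ¬ (Subgroup.normalizer ((R : Subgroup D) : Set D) ≤
        Subgroup.centralizer ((R : Subgroup D) : Set D)))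
    {y : D} (hy : y ∈ H) (hc : ∀ g : D, g * y = y * g) : y = 1 := by
  by_contra hy1
  have hord : orderOf y ≠ 1 := fun h => hy1 (orderOf_eq_one_iff.1 h)
  obtain ⟨r, hr, hry⟩ := Nat.exists_prime_and_dvd hord
  haveI : Fact r.Prime := ⟨hr⟩
  obtain ⟨k, hk⟩ := hry
  have hk0 : 0 < k := by
    rcases Nat.eq_zero_or_pos k with h | h
    · rw [h, mul_zero] at hk
      exact absurd hk (orderOf_pos y).ne'
    · exact h
  -- `z = y ^ k` has order `r`
  have hz : orderOf (y ^ k) = r := by
    rw [orderOf_pow' y hk0.ne', hk, Nat.gcd_eq_right (Dvd.intro_left r rfl),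
      Nat.mul_div_cancel _ hk0]
  have hz1 : y ^ k ≠ 1 := by
    intro h
    rw [h, orderOf_one] at hz
    exact hr.one_lt.ne hz
  have hzH : y ^ k ∈ H := H.pow_mem hy k
  have hzc : ∀ g : D, g * y ^ k = y ^ k * g := fun g =>
    ((show Commute g y from hc g).pow_right k).eq
  have hpg : IsPGroup r (Subgroup.zpowers (y ^ k)) := by
    apply IsPGroup.of_card (n := 1)
    rw [Nat.card_zpowers, hz, pow_one]
  obtain ⟨R, hR⟩ := hpg.exists_le_sylow
  have hrH : r ∣ Nat.card H := by
    rw [← hz]
    have := orderOf_dvd_natCard (⟨y ^ k, hzH⟩ : H)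
    rwa [← Subgroup.orderOf_coe] at this
  apply hN r hr hrH R
  intro g hg
  exact mem_centralizer_of_commute_ne_one R hg (hR (Subgroup.mem_zpowers _)) hz1 (hzc g)

end Cfsg.Agent.Lib.H4.Zas
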