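import Mathlib
import Cfsg.Agent.Lib.H4.Zas.Setup
import Cfsg.Agent.Lib.H4.Zas.ZGroupTwo
import Cfsg.Agent.Lib.H8.CNSolv
import Cfsg.Agent.Lib.H21.OrbitCount
import Cfsg.Agent.S0879

/-!
# Zassenhaus groups with two point stabilizers of odd order and no normal `q`-complements
-/

set_option autoImplicit false
set_option linter.unusedSectionVars false

namespace Cfsg.Agent.Lib.H4.Zas

open MulAction Cfsg Cfsg.Agent.Lib.H2.Zass

variable {G Ω : Type*} [Group G] [MulAction G Ω]

section basic

variable (hP : Pre G Ω)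

include hP in
/-- an element conjugating a non-identity element of the two point stabilizer into it preserves
the pair of points -/
theorem preserves_of_conj_mem {a b : Ω} (hab : a ≠ b) {g h : G} (h1 : h ≠ 1) (ha : h • a = a)
    (hb : h • b = b) (hca : (g * h * g⁻¹) • a = a) (hcb : (g * h * g⁻¹) • b = b) :
    (g • a = a ∧ g • b = b) ∨ (g • a = b ∧ g • b = a) := by
  have hfix : ∀ c : Ω, h • c = c → c = a ∨ c = b := by
    intro c hc
    by_contra hcon
    push Not at hcon
    exact h1 (hP.three h a b c hab (Ne.symm hcon.2) (Ne.symm hcon.1) ha hb hc)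
  have e1 : h • (g⁻¹ • a) = g⁻¹ • a := by
    rw [mul_smul, mul_smul] at hca
    exact (smul_eq_iff_eq_inv_smul g).1 hca
  have e2 : h • (g⁻¹ • b) = g⁻¹ • b := by
    rw [mul_smul, mul_smul] at hcb
    exact (smul_eq_iff_eq_inv_smul g).1 hcb
  have hne : g⁻¹ • a ≠ g⁻¹ • b := fun e => hab (smul_left_cancel _ e)
  rcases hfix _ e1 with f1 | f1 <;> rcases hfix _ e2 with f2 | f2
  · exact absurd (f1.trans f2.symm) hne
  · left
    exact ⟨(inv_smul_eq_iff.1 f1).symm, (inv_smul_eq_iff.1 f2).symm⟩
  · right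
    exact ⟨(inv_smul_eq_iff.1 f2).symm, (inv_smul_eq_iff.1 f1).symm⟩
  · exact absurd (f1.trans f2.symm) hne

theorem conj_fix_of_swap {a b : Ω} {s h : G} (hsa : s • a = b) (hsb : s • b = a)
    (ha : h • a = a) (hb : h • b = b) :
    (s * h * s⁻¹) • a = a ∧ (s * h * s⁻¹) • b = b := by
  have e1 : s⁻¹ • a = b := by rw [inv_smul_eq_iff, hsb]
  have e2 : s⁻¹ • b = a := by rw [inv_smul_eq_iff, hsa]
  exact ⟨by rw [mul_smul, mul_smul, e1, hb, hsb], by rw [mul_smul, mul_smul, e2, ha, hsa]⟩

end basic

section main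

variable [Finite G] [Fintype Ω]

theorem odd_main (hZ : IsZassenhausGroup G Ω) {a b : Ω} (hab : a ≠ b)
    (hodd : Odd (Nat.card ↥(stabilizer G a ⊓ stabilizer G b)))
    (hnil : ∀ q : ℕ, q.Prime → q ∣ Nat.card ↥(stabilizer G a ⊓ stabilizer G b) →
      ¬ ∃ N : Subgroup G, N.Normal ∧ N.index = q ^ (Nat.card G).factorization q) :
    IsCyclic ↥(stabilizer G a ⊓ stabilizer G b) ∧
    Subgroup.centralizer ((stabilizer G a ⊓ stabilizer G b : Subgroup G) : Set G) =
      stabilizer G a ⊓ stabilizer G b ∧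
    ∀ s : G, s • a = b → s • b = a → ∀ h ∈ stabilizer G a ⊓ stabilizer G b,
      s * h * s⁻¹ = h⁻¹ := by
  classical
  have hP := pre_of_zassenhaus hZ
  obtain ⟨hTI, hidx⟩ := Cfsg.Agent.S0879.result hZ hab
  have hcardG := card_eq hP a b hab
  obtain ⟨H, hH⟩ : ∃ H : Subgroup G, H = stabilizer G a ⊓ stabilizer G b := ⟨_, rfl⟩
  rw [← hH] at hodd hnil hTI hidx hcardG ⊢
  have memH : ∀ h : G, h ∈ H ↔ h • a = a ∧ h • b = b := by
    intro h
    rw [hH, Subgroup.mem_inf, mem_stabilizer_iff, mem_stabilizer_iff]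
  obtain ⟨h₁, hh₁1, hh₁a, hh₁b⟩ := exists_fix_two hP hab
  have hh₁H : h₁ ∈ H := (memH _).2 ⟨hh₁a, hh₁b⟩
  have hH0 : Nat.card H ≠ 0 := Nat.card_pos.ne'
  -- the normalizer
  obtain ⟨D, hD⟩ : ∃ D : Subgroup G, D = Subgroup.normalizer (H : Set G) := ⟨_, rfl⟩
  rw [← hD] at hTI hidx
  have hHD : H ≤ D := by rw [hD]; exact Subgroup.le_normalizer
  have hDcases : ∀ g ∈ D, g ∈ H ∨ (g • a = b ∧ g • b = a) := by
    intro g hg
    rw [hD] at hg
    have h2 := (Subgroup.mem_normalizer_iff.1 hg h₁).1 hh₁H
    rw [memH] at h2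
    rcases preserves_of_conj_mem hP hab hh₁1 hh₁a hh₁b h2.1 h2.2 with h3 | h3
    · left; exact (memH _).2 h3
    · right; exact h3
  have hswapD : ∀ s : G, s • a = b → s • b = a → s ∈ D := by
    intro s hsa hsb
    rw [hD, Subgroup.mem_normalizer_iff]
    intro h
    constructor
    · intro hh
      rw [memH] at hh ⊢
      exact conj_fix_of_swap hsa hsb hh.1 hh.2
    · intro hh
      rw [memH] at hh ⊢
      have e1 : s⁻¹ • a = b := by rw [inv_smul_eq_iff, hsb]
      have e2 : s⁻¹ • b = a := by rw [inv_smul_eq_iff, hsa]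
      have := conj_fix_of_swap e1 e2 hh.1 hh.2
      have e3 : s⁻¹ * (s * h * s⁻¹) * s⁻¹⁻¹ = h := by group
      rwa [e3] at this
  -- the action on the kernel
  have hKne : K hP a ≠ ⊥ := by
    intro hbot
    have h1 := card_K hP a
    rw [hbot, Subgroup.card_bot] at h1
    obtain ⟨x, y, z, hxy, hyz, hxz⟩ := exists_three hP
    have : 2 < Fintype.card Ω := Fintype.two_lt_card_iff.2 ⟨x, y, z, hxy, hxz, hyz⟩
    rw [Nat.card_eq_fintype_card] at h1
    omega
  have hHK : H ≤ Subgroup.normalizer (K hP a : Set G) := by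
    intro h hh
    rw [memH] at hh
    rw [Subgroup.mem_normalizer_iff]
    intro u
    constructor
    · intro hu
      exact K_conj_mem hP a hh.1 hu
    · intro hu
      have e1 : h⁻¹ • a = a := by rw [inv_smul_eq_iff, hh.1]
      have := K_conj_mem hP a e1 hu
      have e3 : h⁻¹ * (h * u * h⁻¹) * h⁻¹⁻¹ = u := by group
      rwa [e3] at this
  have hfpf : ∀ h ∈ H, h ≠ 1 → K hP a ⊓ Subgroup.centralizer {h} = ⊥ := by
    intro h hh hh1
    rw [memH] at hh
    rw [eq_bot_iff]
    intro u hu
    rw [Subgroup.mem_bot]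
    by_contra hu1
    apply hh1
    have hc := Subgroup.mem_centralizer_iff.1 hu.2 h (Set.mem_singleton h)
    apply eq_one_of_conj_eq hP a b hab hh.1 hh.2 hu.1 hu1
    rw [hc]
    group
  have hcyc : ∀ S : Subgroup G, S ≤ H → Group.IsNilpotent S → IsCyclic S := by
    intro S hS hn
    apply Cfsg.Agent.Lib.H8.isCyclic_of_fpf_nilpotent_odd hKne (hS.trans hHK)
      (fun d hd => hfpf d (hS hd)) hn
    exact Odd.of_dvd_nat hodd (Subgroup.card_dvd_of_le hS)
  -- `|H|` divides `|Ω| - 2`
  have hdvd : Nat.card H ∣ Nat.card Ω - 2 := by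
    let X : Set Ω := {x | x ≠ a ∧ x ≠ b}
    have hXinv : ∀ g : H, ∀ x ∈ X, g • x ∈ X := by
      intro g x hx
      have hg := (memH _).1 g.2
      constructor
      · intro e
        exact hx.1 (smul_left_cancel (g : G) (e.trans hg.1.symm))
      · intro e
        exact hx.2 (smul_left_cancel (g : G) (e.trans hg.2.symm))
    have hXfree : ∀ x ∈ X, stabilizer H x = ⊥ := by
      intro x hx
      rw [eq_bot_iff]
      intro g hg
      rw [Subgroup.mem_bot]
      have hg' := (memH _).1 g.2
      have e : (g : G) • x = x := hg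
      exact Subtype.ext (hP.three _ a b x hab (Ne.symm hx.2) (Ne.symm hx.1) hg'.1 hg'.2 e)
    have h1 := Cfsg.Agent.Lib.H21.card_dvd_ncard_of_free X (Set.toFinite X) hXinv hXfree
    have h5 : X = ({a, b} : Set Ω)ᶜ := by
      ext y
      simp [X]
    have h6 := Set.ncard_compl_add_ncard ({a, b} : Set Ω)
    rw [Set.ncard_pair hab, ← h5] at h6
    have : X.ncard = Nat.card Ω - 2 := by omega
    rwa [this] at h1
  have hΩ3 : 3 ≤ Nat.card Ω := by
    obtain ⟨x, y, z, hxy, hyz, hxz⟩ := exists_three hP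
    rw [Nat.card_eq_fintype_card]
    exact Fintype.two_lt_card_iff.2 ⟨x, y, z, hxy, hxz, hyz⟩
  -- the `r`-part of `|G|`
  have hfacG : ∀ r : ℕ, r.Prime → r ∣ Nat.card H →
      (Nat.card G).factorization r = (Nat.card H).factorization r := by
    intro r hr hrH
    have hr2 : r ≠ 2 := by
      rintro rfl
      exact (Nat.not_even_iff_odd.2 hodd) (even_iff_two_dvd.2 hrH)
    have hrΩ2 : r ∣ Nat.card Ω - 2 := hrH.trans hdvd
    have h1 : ¬ r ∣ Nat.card Ω := by
      intro h
      have : r ∣ 2 := by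
        have h3 : Nat.card Ω = (Nat.card Ω - 2) + 2 := by omega
        rw [h3] at h
        exact (Nat.dvd_add_right hrΩ2).1 h
      exact hr2 ((Nat.prime_dvd_prime_iff_eq hr Nat.prime_two).1 this)
    have h2 : ¬ r ∣ Nat.card Ω - 1 := by
      intro h
      have : r ∣ 1 := by
        have h3 : Nat.card Ω - 1 = (Nat.card Ω - 2) + 1 := by omega
        rw [h3] at h
        exact (Nat.dvd_add_right hrΩ2).1 h
      exact hr.one_lt.ne' (Nat.dvd_one.1 this)
    have hΩ0 : Nat.card Ω ≠ 0 := by omega
    have hΩ1 : Nat.card Ω - 1 ≠ 0 := by omega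
    rw [hcardG, Nat.factorization_mul (mul_ne_zero hΩ0 hΩ1) hH0,
      Nat.factorization_mul hΩ0 hΩ1]
    simp only [Finsupp.coe_add, Pi.add_apply]
    rw [Nat.factorization_eq_zero_of_not_dvd h1, Nat.factorization_eq_zero_of_not_dvd h2]
    ring
  -- `D` is a Z-group
  have hHDcard : Nat.card (H.subgroupOf D) = Nat.card H :=
    Nat.card_congr (Subgroup.subgroupOfEquivOfLe hHD).toEquiv
  have hDcard : Nat.card D = 2 * Nat.card H := by
    rw [← Subgroup.index_mul_card (H.subgroupOf D), hidx, hHDcard]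
  have hoddHD : Odd (Nat.card (H.subgroupOf D)) := by rw [hHDcard]; exact hodd
  haveI : IsZGroup D := by
    refine ⟨fun p hp P => ?_⟩
    haveI : Fact p.Prime := ⟨hp⟩
    by_cases hp2 : p = 2
    · subst hp2
      have h1 : Nat.card P = 2 ^ (Nat.card D).factorization 2 := P.card_eq_multiplicity
      have h2 : (Nat.card D).factorization 2 = 1 := by
        rw [hDcard, Nat.factorization_mul (by norm_num) hH0]
        simp only [Finsupp.coe_add, Pi.add_apply]
        rw [Nat.factorization_eq_zero_of_not_dvd (fun h => (Nat.not_even_iff_odd.2 hodd)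
          (even_iff_two_dvd.2 h)), Nat.prime_two.factorization_self]
      rw [h2, pow_one] at h1
      exact isCyclic_of_prime_card h1
    · -- `P ≤ H`
      have hPH : ∀ x ∈ (P : Subgroup D), x ∈ H.subgroupOf D := by
        intro x hx
        obtain ⟨k, hk⟩ := (IsPGroup.iff_orderOf.1 P.2) ⟨x, hx⟩
        have hk' : orderOf x = p ^ k := by
          rw [← hk]
          exact (Subgroup.orderOf_mk x hx).symm
        have hoddx : Odd (orderOf x) := by
          rw [hk']
          exact Odd.pow (hp.odd_of_ne_two hp2)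
        obtain ⟨j, hj⟩ := hoddx
        have h3 : x = (x ^ 2) ^ (j + 1) := by
          rw [← pow_mul]
          have : 2 * (j + 1) = orderOf x + 1 := by omega
          rw [this, pow_succ, pow_orderOf_eq_one, one_mul]
        rw [h3]
        exact Subgroup.pow_mem _ (Subgroup.sq_mem_of_index_two hidx x) _
      let S : Subgroup G := (P : Subgroup D).map D.subtype
      have hSH : S ≤ H := by
        rintro _ ⟨x, hx, rfl⟩
        exact Subgroup.mem_subgroupOf.1 (hPH x hx)
      have hSp : IsPGroup p S := P.2.map D.subtype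
      haveI : Group.IsNilpotent S := hSp.isNilpotent
      have hScyc := hcyc S hSH inferInstance
      let eqv : (P : Subgroup D) ≃* S :=
        (P : Subgroup D).equivMapOfInjective D.subtype (Subgroup.subtype_injective _)
      exact isCyclic_of_surjective eqv.symm.toMonoidHom eqv.symm.surjective
  -- Sylow subgroups are not central in their normalizers
  have hN : ∀ r : ℕ, r.Prime → r ∣ Nat.card (H.subgroupOf D) → ∀ R : Sylow r D,
      ¬ (Subgroup.normalizer ((R : Subgroup D) : Set D) ≤
        Subgroup.centralizer ((R : Subgroup D) : Set D)) := by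
    intro r hr hrH R hle
    rw [hHDcard] at hrH
    haveI : Fact r.Prime := ⟨hr⟩
    have hr2 : r ≠ 2 := by
      rintro rfl
      exact (Nat.not_even_iff_odd.2 hodd) (even_iff_two_dvd.2 hrH)
    let R' : Subgroup G := (R : Subgroup D).map D.subtype
    have hmemR' : ∀ y : D, (y : G) ∈ R' ↔ y ∈ (R : Subgroup D) := fun y =>
      Subgroup.mem_map_iff_mem (Subgroup.subtype_injective D)
    have hfacD : (Nat.card D).factorization r = (Nat.card H).factorization r := by
      rw [hDcard, Nat.factorization_mul (by norm_num) hH0]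
      simp only [Finsupp.coe_add, Pi.add_apply]
      rw [Nat.factorization_eq_zero_of_not_dvd, zero_add]
      intro h2
      exact hr2 ((Nat.prime_dvd_prime_iff_eq hr Nat.prime_two).1 h2)
    have hR'card : Nat.card R' = r ^ (Nat.card G).factorization r := by
      rw [hfacG r hr hrH, ← hfacD, ← R.card_eq_multiplicity]
      exact (Nat.card_congr ((R : Subgroup D).equivMapOfInjective D.subtype
        (Subgroup.subtype_injective _)).toEquiv).symm
    have hfpos : 0 < (Nat.card H).factorization r :=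
      hr.factorization_pos_of_dvd hH0 hrH
    -- `R'` is contained in `H` and not trivial
    have hR'H : R' ≤ H := by
      rintro _ ⟨x, hx, rfl⟩
      have hoddx : Odd (orderOf x) := by
        obtain ⟨k, hk⟩ := (IsPGroup.iff_orderOf.1 R.2) ⟨x, hx⟩
        have hk' : orderOf x = r ^ k := by
          rw [← hk]
          exact (Subgroup.orderOf_mk x hx).symm
        rw [hk']
        exact Odd.pow (hr.odd_of_ne_two hr2)
      obtain ⟨j, hj⟩ := hoddx
      have h3 : x = (x ^ 2) ^ (j + 1) := by
        rw [← pow_mul]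
        have : 2 * (j + 1) = orderOf x + 1 := by omega
        rw [this, pow_succ, pow_orderOf_eq_one, one_mul]
      have h4 : x ∈ H.subgroupOf D := by
        rw [h3]
        exact Subgroup.pow_mem _ (Subgroup.sq_mem_of_index_two hidx x) _
      exact Subgroup.mem_subgroupOf.1 h4
    have hR'ne : ∃ x ∈ R', x ≠ 1 := by
      by_contra hcon
      push Not at hcon
      have : R' = ⊥ := by
        rw [eq_bot_iff]
        intro x hx
        exact Subgroup.mem_bot.2 (hcon x hx)
      rw [this, Subgroup.card_bot, hfacG r hr hrH] at hR'card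
      have : 1 < r ^ (Nat.card H).factorization r :=
        Nat.one_lt_pow hfpos.ne' hr.one_lt
      omega
    obtain ⟨x, hxR', hx1⟩ := hR'ne
    let P : Sylow r G := Sylow.ofCard R' hR'card
    have hPcoe : (P : Subgroup G) = R' := Sylow.coe_ofCard R' hR'card
    have hPle : Subgroup.normalizer ((P : Subgroup G) : Set G) ≤
        Subgroup.centralizer ((P : Subgroup G) : Set G) := by
      rw [hPcoe]
      intro g hg
      have hgD : g ∈ D := by
        by_contra hgD
        exact hx1 (hTI g hgD x (hR'H hxR')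
          (hR'H ((Subgroup.mem_normalizer_iff.1 hg x).1 hxR')))
      have hgN : (⟨g, hgD⟩ : D) ∈ Subgroup.normalizer ((R : Subgroup D) : Set D) := by
        rw [Subgroup.mem_normalizer_iff]
        intro y
        rw [← hmemR' y, ← hmemR']
        exact Subgroup.mem_normalizer_iff.1 hg (y : G)
      have hgC := hle hgN
      rw [Subgroup.mem_centralizer_iff]
      rintro _ ⟨y, hy, rfl⟩
      have := Subgroup.mem_centralizer_iff.1 hgC y hy
      exact congrArg Subtype.val this
    have hcompl := MonoidHom.ker_transferSylow_isComplement' P hPle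
    apply hnil r hr hrH
    refine ⟨(MonoidHom.transferSylow P hPle).ker, inferInstance, ?_⟩
    rw [hcompl.symm.index_eq_card]
    exact P.card_eq_multiplicity
  -- the commutator subgroup
  have hcomm := commutator_eq_of_index_two (H.subgroupOf D) hidx hoddHD hN
  have hcycHD : IsCyclic (H.subgroupOf D) := by
    rw [← hcomm]
    exact IsZGroup.isCyclic_commutator D
  have hcycH : IsCyclic H :=
    isCyclic_of_surjective (Subgroup.subgroupOfEquivOfLe hHD).toMonoidHom
      (Subgroup.subgroupOfEquivOfLe hHD).surjective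
  have hHc : ∀ x ∈ H, ∀ y ∈ H, x * y = y * x := by
    intro x hx y hy
    letI : CommGroup H := IsCyclic.commGroup
    have := mul_comm (⟨x, hx⟩ : H) ⟨y, hy⟩
    exact congrArg Subtype.val this
  -- central elements
  have hcentral : ∀ c ∈ H, (∀ g ∈ D, g * c = c * g) → c = 1 := by
    intro c hc hcg
    have h1 : (⟨c, hHD hc⟩ : D) ∈ H.subgroupOf D := Subgroup.mem_subgroupOf.2 hc
    have := eq_one_of_central (H.subgroupOf D) hN h1
      (fun g => Subtype.ext (hcg (g : G) g.2))
    exact congrArg Subtype.val this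
  -- inversion
  have hinv : ∀ s : G, s • a = b → s • b = a → ∀ h ∈ H, s * h * s⁻¹ = h⁻¹ := by
    intro s hsa hsb h hh
    have hsD := hswapD s hsa hsb
    have hhab := (memH _).1 hh
    have hcH : s * h * s⁻¹ ∈ H := (memH _).2 (conj_fix_of_swap hsa hsb hhab.1 hhab.2)
    have hs2 : s * s ∈ H := by
      rw [memH]
      exact ⟨by rw [mul_smul, hsa, hsb], by rw [mul_smul, hsb, hsa]⟩
    -- `c = s h s⁻¹ h` commutes with `s`
    have hcs : s * (s * h * s⁻¹ * h) = (s * h * s⁻¹ * h) * s := by
      have e1 : (s * s) * h = h * (s * s) := hHc _ hs2 _ hh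
      have e2 : (s * h * s⁻¹) * h = h * (s * h * s⁻¹) := hHc _ hcH _ hh
      have e3 : s * (s * h * s⁻¹ * h) = ((s * s) * h) * s⁻¹ * h := by group
      rw [e3, e1, e2]
      group
    apply mul_eq_one_iff_eq_inv.1
    apply hcentral _ (H.mul_mem hcH hh)
    intro g hg
    rcases hDcases g hg with hgH | ⟨hga, hgb⟩
    · exact hHc _ hgH _ (H.mul_mem hcH hh)
    · have hk : s⁻¹ * g ∈ H := by
        rw [memH]
        have e1 : s⁻¹ • a = b := by rw [inv_smul_eq_iff, hsb]
        have e2 : s⁻¹ • b = a := by rw [inv_smul_eq_iff, hsa]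
        exact ⟨by rw [mul_smul, hga, e2], by rw [mul_smul, hgb, e1]⟩
      have e4 := hHc _ hk _ (H.mul_mem hcH hh)
      have e5 : g = s * (s⁻¹ * g) := by group
      rw [e5, mul_assoc, e4, ← mul_assoc, hcs, mul_assoc]
  refine ⟨hcycH, ?_, hinv⟩
  -- the centralizer
  apply le_antisymm
  · intro g hg
    have hgD : g ∈ D := by
      by_contra hgD
      apply hh₁1
      apply hTI g hgD h₁ hh₁H
      have := Subgroup.mem_centralizer_iff.1 hg h₁ hh₁H
      have e : g * h₁ * g⁻¹ = h₁ := by rw [← this]; group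
      rw [e]
      exact hh₁H
    rcases hDcases g hgD with hgH | ⟨hga, hgb⟩
    · exact hgH
    · exfalso
      apply hh₁1
      have e1 := hinv g hga hgb h₁ hh₁H
      have e2 := Subgroup.mem_centralizer_iff.1 hg h₁ hh₁H
      have e3 : g * h₁ * g⁻¹ = h₁ := by rw [← e2]; group
      rw [e3] at e1
      -- `h₁ = h₁⁻¹` in a group of odd order
      have e4 : h₁ ^ 2 = 1 := by
        rw [pow_two]
        nth_rewrite 1 [e1]
        exact inv_mul_cancel h₁
      have e5 : orderOf h₁ ∣ 2 := orderOf_dvd_of_pow_eq_one e4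
      have e6 : orderOf h₁ ∣ Nat.card H := by
        have := orderOf_dvd_natCard (⟨h₁, hh₁H⟩ : H)
        rwa [Subgroup.orderOf_mk] at this
      have e7 : orderOf h₁ ∣ Nat.gcd 2 (Nat.card H) := Nat.dvd_gcd e5 e6
      rw [Nat.coprime_two_left.2 hodd, Nat.dvd_one] at e7
      exact orderOf_eq_one_iff.1 e7
  · intro g hg
    rw [Subgroup.mem_centralizer_iff]
    intro h hh
    exact hHc h hh g hg

end main

end Cfsg.Agent.Lib.H4.Zas
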