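import Mathlib
import Cfsg.Agent.Lib.H4.S3T.Odd.KT

/-!
# A map of a finite field that inverts a subgroup of index two and satisfies the structure
equation of a rank one group is the inversion
-/

set_option autoImplicit false

namespace Cfsg.Agent.Lib.H4.Zas

open Cfsg.Agent.Lib.H4.S3T.Odd

variable {F : Type*} [Field F] [Finite F]

/-- for a multiplicative subgroup `A` of index two containing `-1` there is `x ∉ A`, `x ≠ 0`
with `x + 1 ∈ A` -/
theorem exists_nonmem_succ_mem (A : Set F)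
    (h0 : (0 : F) ∉ A) (hneg : (-1 : F) ∈ A)
    (hmul : ∀ a ∈ A, ∀ b ∈ A, a * b ∈ A) (hinvA : ∀ a ∈ A, a⁻¹ ∈ A)
    (hA : 2 * A.ncard + 1 = Nat.card F) :
    ∃ x : F, x ∉ A ∧ x ≠ 0 ∧ x + 1 ∈ A := by
  classical
  obtain ⟨NT, hNT⟩ : ∃ NT : Set F, NT = {x | x ∉ A ∧ x ≠ 0} := ⟨_, rfl⟩
  have memNT : ∀ x, x ∈ NT ↔ x ∉ A ∧ x ≠ 0 := by
    intro x; rw [hNT]; rfl
  have hne : ∃ x₀, x₀ ∈ NT := by
    by_contra hcon
    push Not at hcon
    have hall : ∀ x : F, x ≠ 0 → x ∈ A := by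
      intro x hx
      by_contra hxA
      exact hcon x ((memNT x).2 ⟨hxA, hx⟩)
    have hsub : ((Set.univ : Set F) \ {0}) ⊆ A := by
      intro x hx
      exact hall x (fun h => hx.2 (by rw [h]; rfl))
    have hcard1 : ((Set.univ : Set F) \ {0}).ncard = Nat.card F - 1 := by
      rw [Set.ncard_diff_singleton_of_mem (Set.mem_univ _), Set.ncard_univ]
    have hle := Set.ncard_le_ncard hsub (Set.toFinite A)
    have h1F : 1 < Nat.card F := Finite.one_lt_card
    omega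
  have hAN : ∀ c ∈ A, ∀ x ∈ NT, c * x ∈ NT := by
    intro c hc x hx
    rw [memNT] at hx ⊢
    have hc0 : c ≠ 0 := fun h => h0 (h ▸ hc)
    refine ⟨fun hcx => hx.1 ?_, mul_ne_zero hc0 hx.2⟩
    have := hmul _ (hinvA c hc) _ hcx
    rwa [← mul_assoc, inv_mul_cancel₀ hc0, one_mul] at this
  by_contra hcon
  push Not at hcon
  have hstep : ∀ x ∈ NT, x + 1 ∈ NT := by
    intro x hx
    rw [memNT]
    refine ⟨hcon x ((memNT x).1 hx).1 ((memNT x).1 hx).2, fun h => ?_⟩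
    have : x = -1 := eq_neg_of_add_eq_zero_left h
    rw [this, memNT] at hx
    exact hx.1 hneg
  have hstepA : ∀ c ∈ A, ∀ x ∈ NT, x + c ∈ NT := by
    intro c hc x hx
    have hc0 : c ≠ 0 := fun h => h0 (h ▸ hc)
    have h3 : c⁻¹ * x ∈ NT := hAN _ (hinvA c hc) x hx
    have h4 := hAN c hc _ (hstep _ h3)
    have : c * (c⁻¹ * x + 1) = x + c := by
      field_simp
    rwa [this] at h4
  let V : AddSubgroup F :=
    { carrier := {w | ∀ x ∈ NT, x + w ∈ NT ∧ x - w ∈ NT}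
      zero_mem' := by
        intro x hx
        rw [add_zero, sub_zero]
        exact ⟨hx, hx⟩
      add_mem' := by
        intro w w' hw hw' x hx
        constructor
        · rw [← add_assoc]
          exact (hw' _ (hw x hx).1).1
        · rw [← sub_sub]
          exact (hw' _ (hw x hx).2).2
      neg_mem' := by
        intro w hw x hx
        rw [sub_neg_eq_add, ← sub_eq_add_neg]
        exact ⟨(hw x hx).2, (hw x hx).1⟩ }
  have hAV : A ⊆ V := by
    intro c hc x hx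
    refine ⟨hstepA c hc x hx, ?_⟩
    have : -c ∈ A := by
      have := hmul _ hneg _ hc
      rwa [neg_one_mul] at this
    rw [sub_eq_add_neg]
    exact hstepA _ this x hx
  have hV : V = ⊤ := addSubgroup_eq_top_of_big' hA V hAV h0
  obtain ⟨x₀, hx₀⟩ := hne
  have hmem : -x₀ ∈ V := by rw [hV]; trivial
  have := (hmem x₀ hx₀).1
  rw [add_neg_cancel, memNT] at this
  exact this.2 rfl

/-- the complement of a multiplicative subgroup of index two is a single coset -/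
theorem exists_mul_of_nonmem (A : Set F) (h0 : (0 : F) ∉ A)
    (hmul : ∀ a ∈ A, ∀ b ∈ A, a * b ∈ A) (hinvA : ∀ a ∈ A, a⁻¹ ∈ A)
    (hA : 2 * A.ncard + 1 = Nat.card F) {ν y : F} (hν : ν ∉ A) (hν0 : ν ≠ 0)
    (hy : y ∉ A) (hy0 : y ≠ 0) : ∃ c ∈ A, y = c * ν := by
  classical
  by_contra hcon
  push Not at hcon
  -- the three sets `A`, `A ν`, `{0}` and the point `y` are disjoint
  let Aν : Set F := (fun c => c * ν) '' A
  have hcardAν : Aν.ncard = A.ncard :=
    Set.ncard_image_of_injective _ (mul_left_injective₀ hν0)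
  have hdisj : Disjoint A Aν := by
    rw [Set.disjoint_left]
    rintro x hx ⟨c, hc, rfl⟩
    apply hν
    have := hmul _ (hinvA c hc) _ hx
    have hc0 : c ≠ 0 := fun h => h0 (h ▸ hc)
    rwa [← mul_assoc, inv_mul_cancel₀ hc0, one_mul] at this
  have hU : (A ∪ Aν).ncard = 2 * A.ncard := by
    rw [Set.ncard_union_eq hdisj (Set.toFinite _) (Set.toFinite _), hcardAν]
    ring
  have h0U : (0 : F) ∉ A ∪ Aν := by
    rintro (h | ⟨c, hc, hc0⟩)
    · exact h0 h
    · rcases mul_eq_zero.1 hc0 with h | h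
      · exact h0 (h ▸ hc)
      · exact hν0 h
  have hyU : y ∉ A ∪ Aν := by
    rintro (h | ⟨c, hc, hcy⟩)
    · exact hy h
    · exact hcon c hc hcy.symm
  have h1 : (insert 0 (A ∪ Aν)).ncard = 2 * A.ncard + 1 := by
    rw [Set.ncard_insert_of_notMem h0U (Set.toFinite _), hU]
  have hyU' : y ∉ insert 0 (A ∪ Aν) := by
    rintro (h | h)
    · exact hy0 h
    · exact hyU h
  have h2 : (insert y (insert 0 (A ∪ Aν))).ncard = 2 * A.ncard + 2 := by
    rw [Set.ncard_insert_of_notMem hyU' (Set.toFinite _), h1]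
  have h3 : (insert y (insert 0 (A ∪ Aν))).ncard ≤ Nat.card F := by
    rw [← Set.ncard_univ]
    exact Set.ncard_le_ncard (Set.subset_univ _) (Set.toFinite _)
  omega

/-- the inversion is forced -/
theorem sigma_eq_inv (A : Set F)
    (h0 : (0 : F) ∉ A) (h1 : (1 : F) ∈ A) (hneg : (-1 : F) ∈ A)
    (hmul : ∀ a ∈ A, ∀ b ∈ A, a * b ∈ A) (hinvA : ∀ a ∈ A, a⁻¹ ∈ A)
    (hA : 2 * A.ncard + 1 = Nat.card F)
    (σ : F → F) (hσ1 : σ 1 = 1) (hσA : ∀ c ∈ A, ∀ x, x ≠ 0 → σ (c * x) = c⁻¹ * σ x)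
    (hσinj : ∀ x y, x ≠ 0 → y ≠ 0 → σ x = σ y → x = y)
    (hKT : ∀ x, x ≠ 0 → x + 1 ≠ 0 → σ x + 1 ≠ 0 → σ (σ x + 1) = -σ (x + 1) + 1) :
    ∀ x, x ≠ 0 → σ x = x⁻¹ := by
  classical
  have hσc : ∀ c ∈ A, σ c = c⁻¹ := by
    intro c hc
    have := hσA c hc 1 one_ne_zero
    rwa [mul_one, hσ1, mul_one] at this
  obtain ⟨ν, hνA, hν0, hν1⟩ := exists_nonmem_succ_mem A h0 hneg hmul hinvA hA
  have hν10 : ν + 1 ≠ 0 := fun h => h0 (h ▸ hν1)
  have e2 : σ (ν + 1) = (ν + 1)⁻¹ := hσc _ hν1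
  have hy0 : σ ν + 1 ≠ 0 := by
    intro h
    have h3 : σ ν = -1 := eq_neg_of_add_eq_zero_left h
    have h4 : σ (-1) = -1 := by
      rw [hσc _ hneg]
      norm_num
    have := hσinj ν (-1) hν0 (by norm_num) (h3.trans h4.symm)
    exact hνA (this ▸ hneg)
  have e3 := hKT ν hν0 hν10 hy0
  -- the constant
  obtain ⟨κ, hκ⟩ : ∃ κ : F, κ = ν * σ ν := ⟨_, rfl⟩
  have hN : ∀ y, y ∉ A → y ≠ 0 → y * σ y = κ := by
    intro y hy hy0'
    obtain ⟨c, hc, rfl⟩ := exists_mul_of_nonmem A h0 hmul hinvA hA hνA hν0 hy hy0'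
    have hc0 : c ≠ 0 := fun h => h0 (h ▸ hc)
    rw [hσA c hc ν hν0, hκ]
    field_simp
  have e4 : (σ ν + 1) * σ (σ ν + 1) = 1 ∨ (σ ν + 1) * σ (σ ν + 1) = κ := by
    by_cases hy : σ ν + 1 ∈ A
    · left
      rw [hσc _ hy, mul_inv_cancel₀ hy0]
    · exact Or.inr (hN _ hy hy0)
  rw [e3, e2] at e4
  have k1 : ν * (σ ν + 1) = κ + ν := by rw [hκ]; ring
  have k2 : (ν + 1) * (-(ν + 1)⁻¹ + 1) = ν := by
    field_simp
    ring
  have hκ1 : κ = 1 := by
    rcases e4 with e | e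
    · have : (κ + ν) * ν = ν * (ν + 1) := by
        calc (κ + ν) * ν = (ν * (σ ν + 1)) * ((ν + 1) * (-(ν + 1)⁻¹ + 1)) := by rw [k1, k2]
          _ = ν * (ν + 1) * ((σ ν + 1) * (-(ν + 1)⁻¹ + 1)) := by ring
          _ = ν * (ν + 1) := by rw [e, mul_one]
      have h3 : (κ - 1) * ν = 0 := by linear_combination this
      rcases mul_eq_zero.1 h3 with h | h
      · exact sub_eq_zero.1 h
      · exact absurd h hν0
    · have : (κ + ν) * ν = ν * (ν + 1) * κ := by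
        calc (κ + ν) * ν = (ν * (σ ν + 1)) * ((ν + 1) * (-(ν + 1)⁻¹ + 1)) := by rw [k1, k2]
          _ = ν * (ν + 1) * ((σ ν + 1) * (-(ν + 1)⁻¹ + 1)) := by ring
          _ = ν * (ν + 1) * κ := by rw [e]
      have h3 : (κ - 1) * (ν * ν) = 0 := by linear_combination -this
      rcases mul_eq_zero.1 h3 with h | h
      · exact sub_eq_zero.1 h
      · exact absurd (mul_self_eq_zero.1 h) hν0
  intro x hx
  by_cases hxA : x ∈ A
  · exact hσc x hxA
  · have := hN x hxA hx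
    rw [hκ1] at this
    exact eq_inv_of_mul_eq_one_right this
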