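import Mathlib
import Cfsg.Agent.Lib.H4.Zas.Sigma
import Cfsg.Agent.Lib.H4.Zas.PSL

/-!
# Coordinates on a Zassenhaus group with `2 d = n - 1`, and the identification with `PSL₂`
-/

set_option autoImplicit false

namespace Cfsg.Agent.Lib.H4.Zas

open MulAction

/-- coordinates: the points are labelled by the projective line over `L`, a point stabilizer
consists of the maps `x ↦ c x + y` with `c` in a subgroup `A` of index two of the multiplicative
group, and an involution `s` swapping `∞` and `0` fixes `1` and inverts the maps `x ↦ c x` -/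
structure Coord (G : Type*) (Ω : Type*) [Group G] [MulAction G Ω] (L : Type*) [Field L] where
  P : Option L ≃ Ω
  τ : L → G
  τ_fix : ∀ y, τ y • P none = P none
  τ_smul : ∀ y x, τ y • P (some x) = P (some (x + y))
  A : Set L
  zero_nmem : (0 : L) ∉ A
  one_mem : (1 : L) ∈ A
  neg_one_mem : (-1 : L) ∈ A
  mul_mem : ∀ c ∈ A, ∀ c' ∈ A, c * c' ∈ A
  inv_mem : ∀ c ∈ A, c⁻¹ ∈ A
  card_A : 2 * A.ncard + 1 = Nat.card L
  sq : ∀ c ∈ A, IsSquare c
  mult : ∀ g : G, g • P none = P none → g • P (some 0) = P (some 0) →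
    ∃ c ∈ A, ∀ x, g • P (some x) = P (some (c * x))
  mult' : ∀ c ∈ A, ∃ g : G, g • P none = P none ∧ g • P (some 0) = P (some 0) ∧
    ∀ x, g • P (some x) = P (some (c * x))
  decomp : ∀ g : G, g • P none = P none →
    ∃ y : L, ∃ h : G, h • P none = P none ∧ h • P (some 0) = P (some 0) ∧ g = τ y * h
  s : G
  s_sq : s * s = 1
  s_a : s • P none = P (some 0)
  s_b : s • P (some 0) = P none
  s_one : s • P (some 1) = P (some 1)
  s_inv : ∀ h : G, h • P none = P none → h • P (some 0) = P (some 0) → s * h * s⁻¹ = h⁻¹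

namespace Coord

variable {G : Type*} {Ω : Type*} [Group G] [MulAction G Ω] {L : Type*} [Field L]
  (C : Coord G Ω L)

theorem s_inv' : C.s⁻¹ = C.s := inv_eq_of_mul_eq_one_right C.s_sq

theorem s_smul_ne_a {x : L} (hx : x ≠ 0) : C.s • C.P (some x) ≠ C.P none := by
  intro h
  have h1 : C.s • C.s • C.P (some x) = C.s • C.P none := congrArg (C.s • ·) h
  rw [← mul_smul, C.s_sq, one_smul, C.s_a] at h1
  exact hx (Option.some_injective _ (C.P.injective h1))

/-- the action of `s` on the finite points -/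
noncomputable def σ (x : L) : L := (C.P.symm (C.s • C.P (some x))).getD 0

theorem s_smul {x : L} (hx : x ≠ 0) : C.s • C.P (some x) = C.P (some (C.σ x)) := by
  unfold σ
  cases h : C.P.symm (C.s • C.P (some x)) with
  | none =>
    exfalso
    apply C.s_smul_ne_a hx
    rw [← h, Equiv.apply_symm_apply]
  | some y =>
    rw [Option.getD_some, ← h, Equiv.apply_symm_apply]

theorem σ_ne_zero {x : L} (hx : x ≠ 0) : C.σ x ≠ 0 := by
  intro h
  have h1 := C.s_smul hx
  rw [h] at h1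
  have h2 : C.s • C.s • C.P (some x) = C.s • C.P (some 0) := congrArg (C.s • ·) h1
  rw [← mul_smul, C.s_sq, one_smul, C.s_b] at h2
  have := C.P.injective h2
  simp at this

theorem σ_one : C.σ 1 = 1 := by
  have h1 := C.s_smul (one_ne_zero (α := L))
  rw [C.s_one] at h1
  exact (Option.some_injective _ (C.P.injective h1)).symm

theorem σ_inj {x y : L} (hx : x ≠ 0) (hy : y ≠ 0) (h : C.σ x = C.σ y) : x = y := by
  have h1 := C.s_smul hx
  have h2 := C.s_smul hy
  rw [h, ← h2] at h1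
  exact Option.some_injective _ (C.P.injective (smul_left_cancel _ h1))

theorem σ_mul {c : L} (hc : c ∈ C.A) {x : L} (hx : x ≠ 0) : C.σ (c * x) = c⁻¹ * C.σ x := by
  obtain ⟨g, hga, hgb, hg⟩ := C.mult' c hc
  have hc0 : c ≠ 0 := fun h => C.zero_nmem (h ▸ hc)
  have hginv : ∀ z, g⁻¹ • C.P (some z) = C.P (some (c⁻¹ * z)) := by
    intro z
    rw [inv_smul_eq_iff, hg, ← mul_assoc, mul_inv_cancel₀ hc0, one_mul]
  have h1 := C.s_smul (mul_ne_zero hc0 hx)
  rw [← hg x] at h1
  have h2 : C.s • g • C.P (some x) = (C.s * g * C.s⁻¹) • C.s • C.P (some x) := by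
    rw [mul_smul, mul_smul, inv_smul_smul]
  rw [h2, C.s_inv g hga hgb, C.s_smul hx, hginv] at h1
  exact (Option.some_injective _ (C.P.injective h1)).symm

theorem σ_neg_one : C.σ (-1) = -1 := by
  have := C.σ_mul C.neg_one_mem (one_ne_zero (α := L))
  rw [mul_one, C.σ_one, mul_one] at this
  rw [this]
  norm_num

/-- the structure equation -/
theorem σ_KT {x : L} (hx : x ≠ 0) (hx1 : x + 1 ≠ 0) (hy : C.σ x + 1 ≠ 0) :
    C.σ (C.σ x + 1) = -C.σ (x + 1) + 1 := by
  have hm1 : (-1 : L) ≠ 0 := by norm_num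
  have hs1 : C.s • C.P (some (-1)) = C.P (some (-1)) := by
    rw [C.s_smul hm1, C.σ_neg_one]
  obtain ⟨m, hm⟩ : ∃ m : G, m = C.τ (-1) * C.s * C.τ 1 * C.s * C.τ (-1) * C.s := ⟨_, rfl⟩
  have hma : m • C.P none = C.P none := by
    rw [hm, mul_smul, mul_smul, mul_smul, mul_smul, mul_smul, C.s_a, C.τ_smul,
      zero_add, hs1, C.τ_smul, neg_add_cancel, C.s_b, C.τ_fix]
  have hmb : m • C.P (some 0) = C.P (some 0) := by
    rw [hm, mul_smul, mul_smul, mul_smul, mul_smul, mul_smul, C.s_b, C.τ_fix, C.s_a,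
      C.τ_smul, zero_add, C.s_one, C.τ_smul, add_neg_cancel]
  have hm1' : m • C.P (some 1) = C.P (some (-1)) := by
    rw [hm, mul_smul, mul_smul, mul_smul, mul_smul, mul_smul, C.s_one, C.τ_smul, add_neg_cancel,
      C.s_b, C.τ_fix, C.s_a, C.τ_smul, zero_add]
  obtain ⟨c, -, hc⟩ := C.mult m hma hmb
  have hc1 : c = -1 := by
    have := hc 1
    rw [hm1', mul_one] at this
    exact (Option.some_injective _ (C.P.injective this)).symm
  -- the group identity
  have hττ : ∀ z : Ω, C.τ 1 • C.τ (-1) • z = z := by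
    intro z
    obtain ⟨o, rfl⟩ := C.P.surjective z
    cases o with
    | none => rw [C.τ_fix, C.τ_fix]
    | some x => rw [C.τ_smul, C.τ_smul, neg_add_cancel_right]
  have hττ' : ∀ z : Ω, C.τ (-1) • C.τ 1 • z = z := by
    intro z
    obtain ⟨o, rfl⟩ := C.P.surjective z
    cases o with
    | none => rw [C.τ_fix, C.τ_fix]
    | some x => rw [C.τ_smul, C.τ_smul, add_neg_cancel_right]
  have hid : (C.s * C.τ 1 * C.s) • C.P (some x) = (C.τ 1 * m * C.s * C.τ 1) • C.P (some x) := by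
    rw [hm]
    simp only [mul_smul]
    rw [← mul_smul C.s C.s, C.s_sq, one_smul, hττ, hττ']
  have hL : (C.s * C.τ 1 * C.s) • C.P (some x) = C.P (some (C.σ (C.σ x + 1))) := by
    rw [mul_smul, mul_smul, C.s_smul hx, C.τ_smul, C.s_smul hy]
  have hR : (C.τ 1 * m * C.s * C.τ 1) • C.P (some x) = C.P (some (-C.σ (x + 1) + 1)) := by
    rw [mul_smul, mul_smul, mul_smul, C.τ_smul, C.s_smul hx1, hc, hc1, C.τ_smul, neg_one_mul]
  rw [hL, hR] at hid
  exact Option.some_injective _ (C.P.injective hid)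

theorem σ_eq_inv [Finite L] {x : L} (hx : x ≠ 0) : C.σ x = x⁻¹ :=
  sigma_eq_inv C.A C.zero_nmem C.one_mem C.neg_one_mem C.mul_mem C.inv_mem C.card_A C.σ
    C.σ_one (fun _ hc _ hx => C.σ_mul hc hx) (fun _ _ hx hy h => C.σ_inj hx hy h)
    (fun _ hx hx1 hy => C.σ_KT hx hx1 hy) x hx

include C in
/-- the identification with `PSL₂` -/
theorem nonempty_PSL [Finite G] [Fintype L] (hfaith : ∀ g : G, (∀ x : Ω, g • x = x) → g = 1)
    (hodd : Odd (Fintype.card L))
    (hcard : 2 * Nat.card G = Fintype.card L * (Fintype.card L ^ 2 - 1)) :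
    Nonempty (G ≃* Matrix.ProjectiveSpecialLinearGroup (Fin 2) L) := by
  apply nonempty_PSL_of_data hfaith C.P _ _ C.s C.s_a C.s_b _ (C.sq _ C.neg_one_mem) hodd hcard
  · intro g hg
    obtain ⟨y, h, hha, hhb, rfl⟩ := C.decomp g hg
    obtain ⟨c, hc, hch⟩ := C.mult h hha hhb
    refine ⟨c, y, C.sq c hc, fun h0 => C.zero_nmem (h0 ▸ hc), fun x => ?_⟩
    rw [mul_smul, hch, C.τ_smul]
  · intro y
    exact ⟨C.τ y, C.τ_fix y, fun x => C.τ_smul y x⟩
  · intro x hx
    rw [C.s_smul hx, C.σ_eq_inv hx]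

end Coord

end Cfsg.Agent.Lib.H4.Zas
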