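import Mathlib
import Cfsg.Agent.Lib.H4.Zas.Setup

/-!
# Zassenhaus groups with `2 d = n - 1`: an involution with fixed points swapping two points
inverts the two point stabilizer
-/

set_option autoImplicit false
set_option linter.unusedSectionVars false

namespace Cfsg.Agent.Lib.H4.Zas

open MulAction Cfsg Cfsg.Agent.Lib.H2.Zass

variable {G Ω : Type*} [Group G] [MulAction G Ω] (hP : Pre G Ω) [Finite Ω] [Finite G]

include hP in
/-- every orbit of the two point stabilizer on the remaining points is preserved -/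
theorem exists_smul_eq_smul {a b : Ω} (hab : a ≠ b)
    (hcard : Nat.card Ω = 2 * Nat.card ↥(stabilizer G a ⊓ stabilizer G b) + 2)
    {s : G} (hs2 : s * s = 1) (hsa : s • a = b) (hsb : s • b = a) {c : Ω} (hca : c ≠ a)
    (hcb : c ≠ b) (hsc : s • c = c) {x : Ω} (hxa : x ≠ a) (hxb : x ≠ b) :
    ∃ h : G, h • a = a ∧ h • b = b ∧ h • x = s • x := by
  classical
  obtain ⟨H, hH⟩ : ∃ H : Subgroup G, H = stabilizer G a ⊓ stabilizer G b := ⟨_, rfl⟩
  rw [← hH] at hcard
  have memH : ∀ h : G, h ∈ H ↔ h • a = a ∧ h • b = b := by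
    intro h
    rw [hH, Subgroup.mem_inf, mem_stabilizer_iff, mem_stabilizer_iff]
  have hsinv : s⁻¹ = s := inv_eq_of_mul_eq_one_right hs2
  have hnorm : ∀ h ∈ H, s * h * s⁻¹ ∈ H := by
    intro h hh
    rw [memH] at hh ⊢
    rw [hsinv]
    constructor
    · rw [mul_smul, mul_smul, hsa, hh.2, hsb]
    · rw [mul_smul, mul_smul, hsb, hh.1, hsa]
  -- orbits have `d` elements
  have horb : ∀ y : Ω, y ≠ a → y ≠ b →
      (Set.range (fun h : H => (h : G) • y)).ncard = Nat.card H := by
    intro y hya hyb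
    rw [← Nat.card_coe_set_eq]
    apply Nat.card_range_of_injective
    intro h h' hhh'
    have e : (h : G) • y = (h' : G) • y := hhh'
    have h1 : ((h' : G)⁻¹ * (h : G)) • y = y := by rw [mul_smul, e, inv_smul_smul]
    have h2 := (memH _).1 (H.mul_mem (H.inv_mem h'.2) h.2)
    have h3 := hP.three _ a b y hab (Ne.symm hyb) (Ne.symm hya) h2.1 h2.2 h1
    exact Subtype.ext (inv_mul_eq_one.1 h3).symm
  let X : Set Ω := {y | y ≠ a ∧ y ≠ b}
  have hXcard : X.ncard = 2 * Nat.card H := by
    have h5 : X = ({a, b} : Set Ω)ᶜ := by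
      ext y
      simp [X]
    have := Set.ncard_compl_add_ncard ({a, b} : Set Ω)
    rw [Set.ncard_pair hab, ← h5] at this
    omega
  let O₁ : Set Ω := Set.range (fun h : H => (h : G) • c)
  have hO₁X : O₁ ⊆ X := by
    rintro _ ⟨h, rfl⟩
    have h2 := (memH _).1 h.2
    constructor
    · intro e
      exact hca (smul_left_cancel (h : G) (e.trans h2.1.symm))
    · intro e
      exact hcb (smul_left_cancel (h : G) (e.trans h2.2.symm))
  by_cases hx : x ∈ O₁
  · obtain ⟨h, rfl⟩ := hx
    refine ⟨s * h * s⁻¹ * (h : G)⁻¹, ?_, ?_, ?_⟩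
    · exact ((memH _).1 (H.mul_mem (hnorm _ h.2) (H.inv_mem h.2))).1
    · exact ((memH _).1 (H.mul_mem (hnorm _ h.2) (H.inv_mem h.2))).2
    · show (s * h * s⁻¹ * (h : G)⁻¹) • ((h : G) • c) = s • ((h : G) • c)
      rw [mul_smul, inv_smul_smul, mul_smul, mul_smul, hsinv, hsc]
  · let O : Set Ω := Set.range (fun h : H => (h : G) • x)
    have hOsub : O ⊆ X \ O₁ := by
      rintro _ ⟨h, rfl⟩
      have h2 := (memH _).1 h.2
      refine ⟨⟨?_, ?_⟩, ?_⟩
      · intro e
        exact hxa (smul_left_cancel (h : G) (e.trans h2.1.symm))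
      · intro e
        exact hxb (smul_left_cancel (h : G) (e.trans h2.2.symm))
      · rintro ⟨h', e⟩
        apply hx
        refine ⟨h⁻¹ * h', ?_⟩
        show ((h⁻¹ * h' : H) : G) • c = x
        rw [Subgroup.coe_mul, mul_smul]
        have e' : (h' : G) • c = (h : G) • x := e
        rw [e', Subgroup.coe_inv, inv_smul_smul]
    have hdiff : (X \ O₁).ncard = Nat.card H := by
      have := Set.ncard_sdiff_add_ncard_of_subset hO₁X (Set.toFinite X)
      rw [horb c hca hcb, hXcard] at this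
      omega
    have hOeq : O = X \ O₁ := by
      apply Set.eq_of_subset_of_ncard_le hOsub _ (Set.toFinite _)
      rw [hdiff, horb x hxa hxb]
    have hsx : s • x ∈ X \ O₁ := by
      refine ⟨⟨?_, ?_⟩, ?_⟩
      · intro e
        apply hxb
        have : s • s • x = s • a := congrArg (s • ·) e
        rwa [← mul_smul, hs2, one_smul, hsa] at this
      · intro e
        apply hxa
        have : s • s • x = s • b := congrArg (s • ·) e
        rwa [← mul_smul, hs2, one_smul, hsb] at this
      · rintro ⟨h, e⟩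
        apply hx
        refine ⟨⟨s * h * s⁻¹, hnorm _ h.2⟩, ?_⟩
        show (s * h * s⁻¹) • c = x
        have e' : (h : G) • c = s • x := e
        rw [mul_smul, mul_smul, hsinv, hsc, e', ← mul_smul, hs2, one_smul]
    rw [← hOeq] at hsx
    obtain ⟨h, e⟩ := hsx
    exact ⟨h, ((memH _).1 h.2).1, ((memH _).1 h.2).2, e⟩

include hP in
/-- the involution inverts the two point stabilizer -/
theorem conj_eq_inv {a b : Ω} (hab : a ≠ b)
    (hcard : Nat.card Ω = 2 * Nat.card ↥(stabilizer G a ⊓ stabilizer G b) + 2)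
    {s : G} (hs2 : s * s = 1) (hsa : s • a = b) (hsb : s • b = a) {c : Ω} (hca : c ≠ a)
    (hcb : c ≠ b) (hsc : s • c = c) {h : G} (hha : h • a = a) (hhb : h • b = b) :
    s * h * s⁻¹ = h⁻¹ := by
  classical
  obtain ⟨H, hH⟩ : ∃ H : Subgroup G, H = stabilizer G a ⊓ stabilizer G b := ⟨_, rfl⟩
  have hcard' := hcard
  rw [← hH] at hcard'
  have memH : ∀ h : G, h ∈ H ↔ h • a = a ∧ h • b = b := by
    intro h
    rw [hH, Subgroup.mem_inf, mem_stabilizer_iff, mem_stabilizer_iff]
  have hsinv : s⁻¹ = s := inv_eq_of_mul_eq_one_right hs2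
  let X : Set Ω := {y | y ≠ a ∧ y ≠ b}
  have hXcard : X.ncard = 2 * Nat.card H := by
    have h5 : X = ({a, b} : Set Ω)ᶜ := by
      ext y
      simp [X]
    have := Set.ncard_compl_add_ncard ({a, b} : Set Ω)
    rw [Set.ncard_pair hab, ← h5] at this
    omega
  have hex : ∀ x : X, ∃ k : H, (k : G) • x.1 = s • x.1 := by
    intro x
    obtain ⟨k, hka, hkb, hk⟩ := exists_smul_eq_smul hP hab hcard hs2 hsa hsb hca hcb hsc x.2.1 x.2.2
    exact ⟨⟨k, (memH k).2 ⟨hka, hkb⟩⟩, hk⟩
  choose f hf using hex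
  haveI : Fintype X := Fintype.ofFinite X
  haveI : Fintype H := Fintype.ofFinite H
  -- the fibres have at most two elements
  have hfib : ∀ k ∈ (Finset.univ : Finset X).image f,
      ((Finset.univ : Finset X).filter (fun x => f x = k)).card ≤ 2 := by
    intro k _
    by_contra hcon
    push Not at hcon
    obtain ⟨x, y, z, hx, hy, hz, hxy, hxz, hyz⟩ := Finset.two_lt_card_iff.1 hcon
    rw [Finset.mem_filter] at hx hy hz
    have hfix : ∀ w : X, f w = k → ((k : G)⁻¹ * s) • w.1 = w.1 := by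
      intro w hw
      rw [mul_smul, inv_smul_eq_iff, ← hw, hf]
    have h1 := hP.three _ x.1 y.1 z.1 (fun e => hxy (Subtype.ext e)) (fun e => hyz (Subtype.ext e))
      (fun e => hxz (Subtype.ext e)) (hfix x hx.2) (hfix y hy.2) (hfix z hz.2)
    have h2 : ((k : G)⁻¹ * s) • a = b := by
      rw [mul_smul, hsa, inv_smul_eq_iff, ((memH _).1 k.2).2]
    rw [h1, one_smul] at h2
    exact hab h2
  have h3 := Finset.card_le_mul_card_image (Finset.univ : Finset X) 2 hfib
  rw [Finset.card_univ, ← Nat.card_eq_fintype_card, Nat.card_coe_set_eq, hXcard] at h3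
  have h4 : ((Finset.univ : Finset X).image f).card ≤ Fintype.card H := Finset.card_le_univ _
  rw [← Nat.card_eq_fintype_card] at h4
  have h5 : (Finset.univ : Finset X).image f = Finset.univ := by
    apply Finset.eq_univ_of_card
    rw [← Nat.card_eq_fintype_card]
    omega
  -- `h⁻¹` is attained
  have hmem : (⟨h⁻¹, (memH _).2 ⟨by rw [inv_smul_eq_iff, hha], by rw [inv_smul_eq_iff, hhb]⟩⟩ : H) ∈
      (Finset.univ : Finset X).image f := by
    rw [h5]
    exact Finset.mem_univ _
  obtain ⟨x, -, hx⟩ := Finset.mem_image.1 hmem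
  have hfx := hf x
  rw [hx] at hfx
  have hfx' : h⁻¹ • x.1 = s • x.1 := hfx
  -- `g = h s` fixes `x` and swaps `a`, `b`
  have g1 : (h * s) • x.1 = x.1 := by
    rw [mul_smul, ← hfx', smul_inv_smul]
  have g2 : ((h * s) * (h * s)) • a = a := by
    rw [mul_smul, mul_smul, mul_smul, hsa, hhb, hsb, hha]
  have g3 : ((h * s) * (h * s)) • b = b := by
    rw [mul_smul, mul_smul, mul_smul, hsb, hha, hsa, hhb]
  have g4 : ((h * s) * (h * s)) • x.1 = x.1 := by
    rw [mul_smul, g1, g1]
  have g5 := hP.three _ a b x.1 hab (Ne.symm x.2.2) (Ne.symm x.2.1) g2 g3 g4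
  rw [hsinv]
  have : s * h * s = h⁻¹ * ((h * s) * (h * s)) := by group
  rw [this, g5, mul_one]

end Cfsg.Agent.Lib.H4.Zas
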