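import Mathlib
import Cfsg.Agent.Lib.H24.SelfDualAbelian
import Cfsg.Agent.Lib.H21.OrbitCount

/-!
# The field attached to an abelian group acting semiregularly with two orbits on an
elementary abelian group
-/

set_option autoImplicit false

namespace Cfsg.Agent.Lib.H4.Zas

universe u v

theorem exists_field_of_semiregular_add {V : Type u} {Ht : Type v} [AddCommGroup V] [Finite V]
    [CommGroup Ht] [Finite Ht] (p : ℕ) [Fact p.Prime] [Module (ZMod p) V]
    (φ : Ht →* AddMonoid.End V) (hfree : ∀ h : Ht, ∀ x : V, φ h x = x → x ≠ 0 → h = 1)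
    (hcard : 2 * Nat.card Ht + 1 = Nat.card V) (v₀ : V) (hv₀ : v₀ ≠ 0) :
    ∃ (L : Type v) (_ : Field L) (_ : Finite L) (ι : Ht →* L) (e : L → V),
      Function.Bijective e ∧ (∀ x y, e (x + y) = e x + e y) ∧
      (∀ h x, e (ι h * x) = φ h (e x)) ∧ e 1 = v₀ := by
  classical
  have hd0 : 0 < Nat.card Ht := Nat.card_pos
  haveI : Nontrivial V := by
    have : 1 < Nat.card V := by omega
    exact Finite.one_lt_card_iff_nontrivial.1 this
  let ρf : Ht → Module.End (ZMod p) V := fun h => (φ h).toZModLinearMap p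
  have hρf : ∀ (h : Ht) (x : V), ρf h x = φ h x := by
    intro h x
    rfl
  let ρ : Representation (ZMod p) Ht V :=
    MonoidHom.mk ⟨ρf, by
      apply LinearMap.ext
      intro x
      rw [hρf, map_one]
      rfl⟩ (by
      intro h h'
      apply LinearMap.ext
      intro x
      rw [Module.End.mul_apply, hρf, hρf, hρf, map_mul]
      rfl)
  have hρ : ∀ (h : Ht) (x : V), ρ h x = φ h x := by
    intro h x
    rfl
  have hφinj : ∀ (g : Ht) (x : V), φ g x = 0 → x = 0 := by
    intro g x hx
    have : φ g⁻¹ (φ g x) = x := by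
      have h1 : φ g⁻¹ * φ g = 1 := by rw [← map_mul, inv_mul_cancel, map_one]
      have h2 : (φ g⁻¹ * φ g) x = φ g⁻¹ (φ g x) := rfl
      rw [← h2, h1]
      rfl
    rw [← this, hx, map_zero]
  have hirr : ∀ U : Submodule (ZMod p) V,
      (∀ h : Ht, ∀ u ∈ U, ρ h u ∈ U) → U = ⊥ ∨ U = ⊤ := by
    intro U hU
    by_contra hcon
    push Not at hcon
    obtain ⟨hbot, htop⟩ := hcon
    letI : MulAction Ht V := MulAction.compHom V ρ
    have hsmul : ∀ (h : Ht) (x : V), h • x = ρ h x := fun h x => rfl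
    let X : Set V := {x | x ∈ U ∧ x ≠ 0}
    have hXinv : ∀ g : Ht, ∀ x ∈ X, g • x ∈ X := by
      intro g x hx
      refine ⟨hU g x hx.1, fun h => hx.2 ?_⟩
      rw [hsmul, hρ] at h
      exact hφinj g x h
    have hXfree : ∀ x ∈ X, MulAction.stabilizer Ht x = ⊥ := by
      intro x hx
      rw [eq_bot_iff]
      intro g hg
      rw [MulAction.mem_stabilizer_iff, hsmul, hρ] at hg
      rw [Subgroup.mem_bot]
      exact hfree g x hg hx.2
    have hdvd := Cfsg.Agent.Lib.H21.card_dvd_ncard_of_free X (Set.toFinite X) hXinv hXfree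
    have hXcard : X.ncard + 1 = Nat.card U := by
      have : (U : Set V) = insert 0 X := by
        ext x
        constructor
        · intro hx
          by_cases h : x = 0
          · left; exact h
          · right; exact ⟨hx, h⟩
        · rintro (h | h)
          · rw [h]; exact U.zero_mem
          · exact h.1
      have h0X : (0 : V) ∉ X := fun h => h.2 rfl
      rw [← Set.ncard_insert_of_notMem h0X (Set.toFinite X), ← this]
      exact (Nat.card_coe_set_eq _).symm
    have hUdvd : Nat.card U ∣ Nat.card V :=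
      AddSubgroup.card_addSubgroup_dvd_card U.toAddSubgroup
    have hKcard : Nat.card V = 2 * Nat.card Ht + 1 := hcard.symm
    have hUne : 1 < Nat.card U := by
      rw [Finite.one_lt_card_iff_nontrivial]
      exact (Submodule.nontrivial_iff_ne_bot).2 hbot
    have hUlt : Nat.card U < Nat.card V := by
      rcases lt_or_eq_of_le (Nat.le_of_dvd Nat.card_pos hUdvd) with h | h
      · exact h
      · exfalso
        apply htop
        have h7 : U.toAddSubgroup = ⊤ := (AddSubgroup.card_eq_iff_eq_top U.toAddSubgroup).1 h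
        rw [eq_top_iff]
        intro x _
        have : x ∈ U.toAddSubgroup := by rw [h7]; trivial
        exact this
    obtain ⟨k, hk⟩ := hdvd
    have hk1 : k = 1 := by
      rcases Nat.lt_or_ge k 1 with h | h
      · interval_cases k
        omega
      · rcases Nat.lt_or_ge k 2 with h' | h'
        · omega
        · exfalso
          have : Nat.card Ht * 2 ≤ Nat.card Ht * k := Nat.mul_le_mul_left _ h'
          omega
    rw [hk1, mul_one] at hk
    -- `d + 1` divides `2 d + 1`
    have h5 : Nat.card U = Nat.card Ht + 1 := by omega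
    rw [h5, hKcard] at hUdvd
    have h6 : Nat.card Ht + 1 ∣ Nat.card Ht := by
      have : 2 * Nat.card Ht + 1 = (Nat.card Ht + 1) + Nat.card Ht := by ring
      rw [this] at hUdvd
      exact (Nat.dvd_add_right (dvd_refl _)).1 hUdvd
    have := Nat.le_of_dvd hd0 h6
    omega
  obtain ⟨L, fL, aL, ι, e₀, -, he₀⟩ :=
    Cfsg.Agent.Lib.H24.SelfDualAbelian.exists_field_model ρ hirr
  refine ⟨L, fL, ?_, ι, ?_⟩
  · exact Finite.of_equiv _ e₀.symm.toEquiv
  · obtain ⟨x₀, hx₀⟩ : ∃ x₀ : L, e₀ x₀ = v₀ := e₀.surjective _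
    have hx₀0 : x₀ ≠ 0 := by
      rintro rfl
      rw [map_zero] at hx₀
      exact hv₀ hx₀.symm
    refine ⟨fun x => e₀ (x₀ * x), ⟨?_, ?_⟩, ?_, ?_, ?_⟩
    · intro x y hxy
      have := e₀.injective hxy
      exact mul_left_cancel₀ hx₀0 this
    · intro u
      obtain ⟨y, hy⟩ := e₀.surjective u
      refine ⟨x₀⁻¹ * y, ?_⟩
      show e₀ (x₀ * (x₀⁻¹ * y)) = u
      rw [← mul_assoc, mul_inv_cancel₀ hx₀0, one_mul, hy]
    · intro x y
      show e₀ (x₀ * (x + y)) = _
      rw [mul_add, map_add]
    · intro h x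
      show e₀ (x₀ * (ι h * x)) = _
      have : x₀ * (ι h * x) = ι h * (x₀ * x) := by ring
      rw [this, he₀, hρ]
    · show e₀ (x₀ * 1) = v₀
      rw [mul_one, hx₀]

theorem exists_field_of_semiregular {Kt : Type u} {Ht : Type v} [Group Kt] [Finite Kt]
    [Group Ht] [Finite Ht] (hKc : ∀ x y : Kt, x * y = y * x) (hHc : ∀ x y : Ht, x * y = y * x)
    (p : ℕ) [Fact p.Prime] (hexp : ∀ u : Kt, u ^ p = 1)
    (φ : Ht →* MulAut Kt) (hfree : ∀ h : Ht, ∀ u : Kt, φ h u = u → u ≠ 1 → h = 1)
    (hcard : 2 * Nat.card Ht + 1 = Nat.card Kt) (u₀ : Kt) (hu₀ : u₀ ≠ 1) :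
    ∃ (L : Type v) (_ : Field L) (_ : Finite L) (ι : Ht →* L) (e : L → Kt),
      Function.Bijective e ∧ (∀ x y, e (x + y) = e x * e y) ∧
      (∀ h x, e (ι h * x) = φ h (e x)) ∧ e 1 = u₀ := by
  classical
  have hexp' : ∀ x : Additive Kt, p • x = 0 := by
    intro x
    exact hexp (Additive.toMul x)
  let φf : Ht → AddMonoid.End (Additive Kt) := fun h => MonoidHom.toAdditive (φ h).toMonoidHom
  have hφf : ∀ (h : Ht) (x : Additive Kt), φf h x = Additive.ofMul (φ h (Additive.toMul x)) :=
    fun h x => rfl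
  let φ' : Ht →* AddMonoid.End (Additive Kt) :=
    MonoidHom.mk ⟨φf, by
      apply AddMonoidHom.ext
      intro x
      show Additive.ofMul (φ 1 (Additive.toMul x)) = x
      rw [map_one]
      rfl⟩ (by
      intro h h'
      apply AddMonoidHom.ext
      intro x
      show Additive.ofMul (φ (h * h') (Additive.toMul x)) =
        Additive.ofMul (φ h (Additive.toMul (Additive.ofMul (φ h' (Additive.toMul x)))))
      rw [map_mul]
      rfl)
  have hφ' : ∀ (h : Ht) (x : Additive Kt), φ' h x = Additive.ofMul (φ h (Additive.toMul x)) :=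
    fun h x => rfl
  have hfree' : ∀ h : Ht, ∀ x : Additive Kt, φ' h x = x → x ≠ 0 → h = 1 := by
    intro h x hx hx0
    rw [hφ'] at hx
    apply hfree h (Additive.toMul x) (Additive.ofMul.injective hx)
    intro h1
    exact hx0 (Additive.toMul.injective h1)
  have hcard' : 2 * Nat.card Ht + 1 = Nat.card (Additive Kt) := hcard
  have hu₀' : Additive.ofMul u₀ ≠ 0 := fun h => hu₀ (Additive.ofMul.injective h)
  obtain ⟨L, fL, finL, ι, e, he, hadd, hι, h1⟩ :=
    @exists_field_of_semiregular_add (Additive Kt) Ht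
      (@Additive.addCommGroup Kt { ‹Group Kt› with mul_comm := hKc }) _
      { ‹Group Ht› with mul_comm := hHc } _ p _
      (@AddCommGroup.zmodModule p (Additive Kt)
        (@Additive.addCommGroup Kt { ‹Group Kt› with mul_comm := hKc }) hexp')
      φ' hfree' hcard' (Additive.ofMul u₀) hu₀'
  refine ⟨L, fL, finL, ι, fun x => Additive.toMul (e x), ⟨?_, ?_⟩, ?_, ?_, ?_⟩
  · intro x y hxy
    exact he.1 (Additive.toMul.injective hxy)
  · intro u
    obtain ⟨x, hx⟩ := he.2 (Additive.ofMul u)
    exact ⟨x, by show Additive.toMul (e x) = u; rw [hx]; rfl⟩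
  · intro x y
    show Additive.toMul (e (x + y)) = _
    rw [hadd]
    rfl
  · intro h x
    show Additive.toMul (e (ι h * x)) = _
    rw [hι, hφ']
    rfl
  · show Additive.toMul (e 1) = u₀
    rw [h1]
    rfl
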