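import Mathlib
import Cfsg.Agent.Lib.H4.Zas.Invert
import Cfsg.Agent.Lib.H4.Zas.Model
import Cfsg.Agent.Lib.H4.Zas.Coord
import Cfsg.Agent.S0738
import Cfsg.Agent.S0740
import Cfsg.Agent.S0741

/-!
# Zassenhaus groups with `d` even and `2 d ≤ n - 1`: coordinates
-/

set_option autoImplicit false
set_option linter.unusedSectionVars false

namespace Cfsg.Agent.Lib.H4.Zas

open MulAction Cfsg Cfsg.Agent.Lib.H2.Zass

universe u v

section conj

variable {G : Type u} {Ω : Type v} [Group G] [MulAction G Ω] (hP : Pre G Ω) [Finite Ω]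

/-- conjugation by an element of the two point stabilizer, on the kernel -/
noncomputable def conjK (a b : Ω) :
    ↥(stabilizer G a ⊓ stabilizer G b) →* MulAut ↥(K hP a) :=
  MonoidHom.mk' (fun h =>
    { toFun := fun u => ⟨(h : G) * u * (h : G)⁻¹,
        K_conj_mem hP a (mem_stabilizer_iff.1 (Subgroup.mem_inf.1 h.2).1) u.2⟩
      invFun := fun u => ⟨(h : G)⁻¹ * u * (h : G), by
        have h1 : (h : G)⁻¹ • a = a := by
          rw [inv_smul_eq_iff]
          exact (mem_stabilizer_iff.1 (Subgroup.mem_inf.1 h.2).1).symm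
        have := K_conj_mem hP a h1 u.2
        rwa [inv_inv] at this⟩
      left_inv := fun u => Subtype.ext (by
        show (h : G)⁻¹ * ((h : G) * u * (h : G)⁻¹) * (h : G) = u
        group)
      right_inv := fun u => Subtype.ext (by
        show (h : G) * ((h : G)⁻¹ * u * (h : G)) * (h : G)⁻¹ = u
        group)
      map_mul' := fun u v => Subtype.ext (by
        show (h : G) * ((u : G) * (v : G)) * (h : G)⁻¹ =
          ((h : G) * u * (h : G)⁻¹) * ((h : G) * v * (h : G)⁻¹)
        group) })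
    (fun h h' => MulEquiv.ext (fun u => Subtype.ext (by
      show ((h : G) * (h' : G)) * u * ((h : G) * (h' : G))⁻¹ =
        (h : G) * ((h' : G) * u * (h' : G)⁻¹) * (h : G)⁻¹
      group)))

theorem conjK_coe (a b : Ω) (h : ↥(stabilizer G a ⊓ stabilizer G b)) (u : ↥(K hP a)) :
    ((conjK hP a b h u : ↥(K hP a)) : G) = (h : G) * u * (h : G)⁻¹ := rfl

end conj

theorem exists_coord {G : Type u} {Ω : Type v} [Group G] [Finite G] [MulAction G Ω] [Fintype Ω]
    (hZ : IsZassenhausGroup G Ω) {a b : Ω} (hab : a ≠ b)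
    (heven : Even (Nat.card ↥(stabilizer G a ⊓ stabilizer G b)))
    (hd : 2 * Nat.card ↥(stabilizer G a ⊓ stabilizer G b) ≤ Fintype.card Ω - 2) :
    ∃ (p f : ℕ) (L : Type u) (_ : Field L) (_ : Finite L), p.Prime ∧ Nat.card L = p ^ f ∧
      Fintype.card Ω = p ^ f + 1 ∧
      Nat.card L = 2 * Nat.card ↥(stabilizer G a ⊓ stabilizer G b) + 1 ∧
      Nonempty (Coord G Ω L) := by
  classical
  have hP := pre_of_zassenhaus hZ
  have memH : ∀ h : G, h ∈ stabilizer G a ⊓ stabilizer G b ↔ h • a = a ∧ h • b = b := by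
    intro h
    rw [Subgroup.mem_inf, mem_stabilizer_iff, mem_stabilizer_iff]
  -- cardinalities
  have h741 := Cfsg.Agent.S0741.result hZ hab heven
  have h3 : 3 ≤ Fintype.card Ω := by
    obtain ⟨x, y, z, hxy, hyz, hxz⟩ := exists_three hP
    exact Fintype.two_lt_card_iff.2 ⟨x, y, z, hxy, hxz, hyz⟩
  have hΩ : Fintype.card Ω = 2 * Nat.card ↥(stabilizer G a ⊓ stabilizer G b) + 2 := by omega
  have hNatΩ : Nat.card Ω = 2 * Nat.card ↥(stabilizer G a ⊓ stabilizer G b) + 2 := by
    rw [Nat.card_eq_fintype_card]; exact hΩ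
  have hdpos : 0 < Nat.card ↥(stabilizer G a ⊓ stabilizer G b) := Nat.card_pos
  -- the kernel
  have hKle := K_le_stabilizer hP a
  have hKn : ((K hP a).subgroupOf (stabilizer G a)).Normal := by
    refine ⟨fun n hn g => ?_⟩
    rw [Subgroup.mem_subgroupOf] at hn ⊢
    show (g : G) * (n : G) * ((g : G))⁻¹ ∈ K hP a
    exact K_conj_mem hP a g.2 hn
  have hreg : ∀ y z : Ω, y ≠ a → z ≠ a → ∃! u : K hP a, (u : G) • y = z := by
    intro y z hy hz
    obtain ⟨u, hu, huy⟩ := K_transitive hP a hy hz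
    exact ⟨⟨u, hu⟩, huy, fun v hv =>
      Subtype.ext (K_eq_of_smul_eq hP a v.2 hu hy (hv.trans huy.symm))⟩
  obtain ⟨hKcomm, p, f, hp, hexp, hΩp⟩ :=
    Cfsg.Agent.S0738.result hZ hab h741 (K hP a) hKle hKn hreg
  -- the involution
  have hevenΩ : Even (Fintype.card Ω) :=
    ⟨Nat.card ↥(stabilizer G a ⊓ stabilizer G b) + 1, by omega⟩
  obtain ⟨s, hs2, hsa, hsb, hsfix⟩ := (Cfsg.Agent.S0740.result hZ hab).2.2 hevenΩ heven
  have hss : s * s = 1 := by
    rw [← pow_two, ← hs2]
    exact pow_orderOf_eq_one s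
  obtain ⟨c, hc⟩ : ∃ c : Ω, s • c = c := by
    have h0 : 0 < Nat.card (fixedBy Ω s) := by rw [hsfix]; norm_num
    obtain ⟨⟨c, hc⟩⟩ := (Nat.card_pos_iff.1 h0).1
    exact ⟨c, hc⟩
  have hca : c ≠ a := by
    rintro rfl
    exact hab (hc.symm.trans hsa)
  have hcb : c ≠ b := by
    rintro rfl
    exact hab (hsb.symm.trans hc)
  have hinv : ∀ h : G, h • a = a → h • b = b → s * h * s⁻¹ = h⁻¹ := fun h ha hb =>
    conj_eq_inv hP hab hNatΩ hss hsa hsb hca hcb hc ha hb
  -- the two point stabilizer is commutative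
  have hHc : ∀ x y : ↥(stabilizer G a ⊓ stabilizer G b), x * y = y * x := by
    intro x y
    apply Subtype.ext
    have hx := (memH _).1 x.2
    have hy := (memH _).1 y.2
    have hxy := (memH _).1 (x * y).2
    have e1 := hinv _ hxy.1 hxy.2
    have e2 := hinv _ hx.1 hx.2
    have e3 := hinv _ hy.1 hy.2
    have e4 : s * ((x : G) * (y : G)) * s⁻¹ = (s * x * s⁻¹) * (s * y * s⁻¹) := by group
    rw [Subgroup.coe_mul] at e1
    rw [e1, e2, e3] at e4
    show (x : G) * (y : G) = (y : G) * (x : G)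
    have e5 : ((x : G) * (y : G))⁻¹⁻¹ = ((x : G)⁻¹ * (y : G)⁻¹)⁻¹ := by rw [e4]
    rw [inv_inv, mul_inv_rev, inv_inv, inv_inv] at e5
    exact e5
  -- the field
  haveI : Fact p.Prime := ⟨hp⟩
  have hKc : ∀ x y : ↥(K hP a), x * y = y * x := fun x y => mul_comm' x y
  have hexp' : ∀ u : ↥(K hP a), u ^ p = 1 := fun u =>
    Subtype.ext (by rw [Subgroup.coe_pow]; exact hexp u.1 u.2)
  have hfree : ∀ h : ↥(stabilizer G a ⊓ stabilizer G b), ∀ u : ↥(K hP a),
      conjK hP a b h u = u → u ≠ 1 → h = 1 := by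
    intro h u hu hu1
    apply Subtype.ext
    have h1 : (h : G) * u * (h : G)⁻¹ = u := by
      rw [← conjK_coe hP a b h u, hu]
    exact eq_one_of_conj_eq hP a b hab ((memH _).1 h.2).1 ((memH _).1 h.2).2 u.2
      (fun e => hu1 (Subtype.ext e)) h1
  have hcardK : 2 * Nat.card ↥(stabilizer G a ⊓ stabilizer G b) + 1 = Nat.card ↥(K hP a) := by
    have := card_K hP a
    omega
  obtain ⟨u₀, hu₀K, hu₀b⟩ := K_transitive hP a (Ne.symm hab) hca
  have hu₀1 : (⟨u₀, hu₀K⟩ : ↥(K hP a)) ≠ 1 := by
    intro e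
    have : u₀ = 1 := congrArg Subtype.val e
    rw [this, one_smul] at hu₀b
    exact hcb hu₀b.symm
  obtain ⟨L, fL, finL, ι, e, he, hadd, hι, he1⟩ :=
    exists_field_of_semiregular hKc hHc p hexp' (conjK hP a b) hfree hcardK ⟨u₀, hu₀K⟩ hu₀1
  have hcardL : Nat.card L = 2 * Nat.card ↥(stabilizer G a ⊓ stabilizer G b) + 1 := by
    rw [hcardK]
    exact Nat.card_eq_of_bijective e he
  refine ⟨p, f, L, fL, finL, hp, ?_, hΩp, hcardL, ?_⟩
  · rw [hcardL]
    omega
  -- properties of `e`
  have he0 : e 0 = 1 := by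
    have := hadd 0 0
    rw [add_zero] at this
    exact (mul_eq_left.1 this.symm)
  have heK : ∀ x : L, (e x : G) ∈ K hP a := fun x => (e x).2
  have hefix : ∀ x : L, (e x : G) • a = a := fun x => hKle (heK x)
  have haddG : ∀ x y : L, ((e (x + y) : ↥(K hP a)) : G) = (e x : G) * (e y : G) := by
    intro x y
    rw [hadd, Subgroup.coe_mul]
  -- properties of `ι`
  have hιinj1 : ∀ h, ι h = 1 → h = 1 := by
    intro h hh
    apply hfree h (e 1)
    · rw [← hι, hh, one_mul]
    · rw [he1]
      exact hu₀1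
  have hιinv : ∀ h, ι h⁻¹ = (ι h)⁻¹ := by
    intro h
    apply eq_inv_of_mul_eq_one_left
    rw [← map_mul, inv_mul_cancel, map_one]
  have hι0 : ∀ h, ι h ≠ 0 := by
    intro h h0
    have : ι h⁻¹ * ι h = 1 := by rw [← map_mul, inv_mul_cancel, map_one]
    rw [h0, mul_zero] at this
    exact zero_ne_one this
  have hιinj : Function.Injective ι := by
    intro h h' hh
    have : ι (h * h'⁻¹) = 1 := by
      rw [map_mul, hιinv, hh, mul_inv_cancel₀ (hι0 h')]
    have := hιinj1 _ this
    exact mul_inv_eq_one.1 this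
  -- the action of the two point stabilizer
  have hmultH : ∀ (h : ↥(stabilizer G a ⊓ stabilizer G b)) (x : L),
      (h : G) • (e x : G) • b = (e (ι h * x) : G) • b := by
    intro h x
    rw [hι, conjK_coe, mul_smul, mul_smul]
    have : (h : G)⁻¹ • b = b := by
      rw [inv_smul_eq_iff]
      exact ((memH _).1 h.2).2.symm
    rw [this]
  -- the labelling
  let Pf : Option L → Ω := fun o => Option.elim o a (fun x => (e x : G) • b)
  have hPf_inj : Function.Injective Pf := by
    intro o o' hoo'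
    cases o with
    | none =>
      cases o' with
      | none => rfl
      | some y =>
        exfalso
        have h1 : a = (e y : G) • b := hoo'
        exact K_smul_ne hP a (heK y) (Ne.symm hab) h1.symm
    | some x =>
      cases o' with
      | none =>
        exfalso
        have h1 : (e x : G) • b = a := hoo'
        exact K_smul_ne hP a (heK x) (Ne.symm hab) h1
      | some y =>
        have h1 : (e x : G) • b = (e y : G) • b := hoo'
        have h2 := K_eq_of_smul_eq hP a (heK x) (heK y) (Ne.symm hab) h1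
        rw [he.1 (Subtype.ext h2)]
  have hPf_surj : Function.Surjective Pf := by
    intro z
    by_cases hz : z = a
    · exact ⟨none, hz.symm⟩
    · obtain ⟨u, hu, hub⟩ := K_transitive hP a (Ne.symm hab) hz
      obtain ⟨x, hx⟩ := he.2 ⟨u, hu⟩
      refine ⟨some x, ?_⟩
      show (e x : G) • b = z
      rw [hx]
      exact hub
  let P : Option L ≃ Ω := Equiv.ofBijective Pf ⟨hPf_inj, hPf_surj⟩
  have hPn : P none = a := rfl
  have hPs : ∀ x : L, P (some x) = (e x : G) • b := fun x => rfl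
  have hP0 : P (some 0) = b := by
    rw [hPs, he0, Subgroup.coe_one, one_smul]
  have hmem : ∀ g : G, g • P none = P none → g • P (some 0) = P (some 0) →
      g ∈ stabilizer G a ⊓ stabilizer G b := by
    intro g hga hgb
    rw [hPn] at hga
    rw [hP0] at hgb
    exact (memH g).2 ⟨hga, hgb⟩
  haveI : Fintype L := Fintype.ofFinite L
  have hcardL' : Fintype.card L = 2 * Nat.card ↥(stabilizer G a ⊓ stabilizer G b) + 1 := by
    rw [← Nat.card_eq_fintype_card]; exact hcardL
  have hchar : ringChar L ≠ 2 := by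
    intro h2
    have := FiniteField.even_card_of_char_two h2
    omega
  have hsqι : ∀ h, IsSquare (ι h) := by
    intro h
    rw [FiniteField.isSquare_iff hchar (hι0 h), hcardL']
    have : (2 * Nat.card ↥(stabilizer G a ⊓ stabilizer G b) + 1) / 2 =
        Nat.card ↥(stabilizer G a ⊓ stabilizer G b) := by omega
    rw [this, ← map_pow, pow_card_eq_one', map_one]
  -- `-1` is a multiplier
  have hneg : (-1 : L) ∈ Set.range ι := by
    haveI : Fact (Nat.Prime 2) := ⟨Nat.prime_two⟩
    obtain ⟨h₀, hh₀⟩ := exists_prime_orderOf_dvd_card' (G := ↥(stabilizer G a ⊓ stabilizer G b)) 2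
      (even_iff_two_dvd.1 heven)
    have h1 : ι h₀ * ι h₀ = 1 := by
      rw [← map_mul, ← pow_two, ← hh₀, pow_orderOf_eq_one, map_one]
    rcases mul_self_eq_one_iff.1 h1 with h2 | h2
    · exfalso
      have := hιinj1 _ h2
      rw [this, orderOf_one] at hh₀
      norm_num at hh₀
    · exact ⟨h₀, h2⟩
  refine ⟨{ P := P
            τ := fun y => (e y : G)
            τ_fix := fun y => hefix y
            τ_smul := ?_
            A := Set.range ι
            zero_nmem := ?_
            one_mem := ⟨1, map_one ι⟩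
            neg_one_mem := hneg
            mul_mem := ?_
            inv_mem := ?_
            card_A := ?_
            sq := ?_
            mult := ?_
            mult' := ?_
            decomp := ?_
            s := s
            s_sq := hss
            s_a := ?_
            s_b := ?_
            s_one := ?_
            s_inv := ?_ }⟩
  · intro y x
    rw [hPs, hPs, ← mul_smul, ← haddG, add_comm]
  · rintro ⟨h, hh⟩
    exact hι0 h hh
  · rintro _ ⟨h, rfl⟩ _ ⟨h', rfl⟩
    exact ⟨h * h', map_mul ι h h'⟩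
  · rintro _ ⟨h, rfl⟩
    exact ⟨h⁻¹, hιinv h⟩
  · rw [← Nat.card_coe_set_eq, Nat.card_range_of_injective hιinj, hcardL]
  · rintro _ ⟨h, rfl⟩
    exact hsqι h
  · intro g hga hgb
    have hg := hmem g hga hgb
    refine ⟨ι ⟨g, hg⟩, ⟨_, rfl⟩, fun x => ?_⟩
    rw [hPs, hPs]
    exact hmultH ⟨g, hg⟩ x
  · rintro _ ⟨h, rfl⟩
    refine ⟨h, ?_, ?_, fun x => ?_⟩
    · rw [hPn]
      exact ((memH _).1 h.2).1
    · rw [hP0]
      exact ((memH _).1 h.2).2
    · rw [hPs, hPs]
      exact hmultH h x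
  · intro g hg
    rw [hPn] at hg
    obtain ⟨u, hu, h, hha, hhb, rfl⟩ := exists_K_mul hP a b hab hg
    obtain ⟨y, hy⟩ := he.2 ⟨u, hu⟩
    refine ⟨y, h, ?_, ?_, ?_⟩
    · rw [hPn]; exact hha
    · rw [hP0]; exact hhb
    · rw [hy]
  · rw [hPn, hP0]; exact hsa
  · rw [hPn, hP0]; exact hsb
  · rw [hPs, he1]
    show s • u₀ • b = u₀ • b
    rw [hu₀b, hc]
  · intro h hha hhb
    rw [hPn] at hha
    rw [hP0] at hhb
    exact hinv h hha hhb

end Cfsg.Agent.Lib.H4.Zas
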