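import Mathlib
import Cfsg.Agent.Lib.H4.Zas.PSL

/-!
# `PSL₂` from the affine description of a point stabilizer and a map `x ↦ w / x`
-/

set_option autoImplicit false

namespace Cfsg.Agent.Lib.H4.Zas

open MulAction Matrix Projectivization Cfsg.Agent.Lib.H2.ProjLine Cfsg.Agent.Lib.H4.S3T
open scoped LinearAlgebra.Projectivization MatrixGroups

section range

variable {L : Type*} [Field L]

/-- the matrix of `x ↦ w / x` -/
noncomputable def swapW (w : L) (hw : w ≠ 0) : GL (Fin 2) L :=
  Matrix.GeneralLinearGroup.mkOfDetNeZero !![0, w; 1, 0] (by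
    rw [Matrix.det_fin_two_of]; simpa using hw)

theorem swapW_smul_none (w : L) (hw : w ≠ 0) :
    (ProjGenLinGroup.mk (swapW w hw) : PGL(Fin 2, L)) • pt (none : Option L) = pt (some 0) := by
  rw [pt_none, pt_some, PGL.mk_smul_mk, mk_eq_mk_iff_D, GL_smul_def]
  simp [swapW, D, Matrix.mulVec, dotProduct, Fin.sum_univ_two]

theorem swapW_smul_zero (w : L) (hw : w ≠ 0) :
    (ProjGenLinGroup.mk (swapW w hw) : PGL(Fin 2, L)) • pt (some (0 : L)) = pt none := by
  rw [pt_none, pt_some, PGL.mk_smul_mk, mk_eq_mk_iff_D, GL_smul_def]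
  simp [swapW, D, Matrix.mulVec, dotProduct, Fin.sum_univ_two]

theorem swapW_smul_some (w : L) (hw : w ≠ 0) {x : L} (hx : x ≠ 0) :
    (ProjGenLinGroup.mk (swapW w hw) : PGL(Fin 2, L)) • pt (some x) = pt (some (w * x⁻¹)) := by
  rw [pt_some, pt_some, PGL.mk_smul_mk, mk_eq_mk_iff_D, GL_smul_def]
  simp [swapW, D, Matrix.mulVec, dotProduct, Fin.sum_univ_two]
  field_simp
  ring

theorem swapW_mem_range (w : L) (hw : w ≠ 0) (hsq : IsSquare (-w)) :
    (ProjGenLinGroup.mk (swapW w hw) : PGL(Fin 2, L)) ∈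
      (ProjectiveSpecialLinearGroup.toPGL (n := Fin 2) (R := L)).range := by
  obtain ⟨t, ht⟩ := hsq
  have ht0 : t ≠ 0 := by
    rintro rfl
    rw [mul_zero] at ht
    exact hw (neg_eq_zero.1 ht)
  apply mk_mem_range_toPGL _ t⁻¹
  have : ((swapW w hw : GL (Fin 2) L) : Matrix (Fin 2) (Fin 2) L) = !![0, w; 1, 0] := rfl
  rw [this, Matrix.det_fin_two_of]
  have h2 : t⁻¹ * t⁻¹ = (-w)⁻¹ := by
    rw [ht, mul_inv]
  rw [h2]
  have : -w ≠ 0 := neg_ne_zero.2 hw
  field_simp
  ring

end range

section main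

variable {G : Type*} [Group G] [Finite G] {Ω : Type*} [MulAction G Ω]
  {L : Type*} [Field L] [Fintype L]

theorem nonempty_PSL_of_data' (hfaith : ∀ g : G, (∀ x : Ω, g • x = x) → g = 1)
    (P : Option L ≃ Ω)
    (h1 : ∀ g : G, g • P none = P none → ∃ c y : L, IsSquare c ∧ c ≠ 0 ∧
      ∀ x, g • P (some x) = P (some (c * x + y)))
    (h2 : ∀ y : L, ∃ g : G, g • P none = P none ∧ ∀ x, g • P (some x) = P (some (x + y)))
    (s : G) (hs0 : s • P none = P (some 0)) (hs1 : s • P (some 0) = P none)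
    (w : L) (hw : w ≠ 0)
    (hs : ∀ x : L, x ≠ 0 → s • P (some x) = P (some (w * x⁻¹)))
    (hm1 : IsSquare (-w)) (hodd : Odd (Fintype.card L))
    (hcard : 2 * Nat.card G = Fintype.card L * (Fintype.card L ^ 2 - 1)) :
    Nonempty (G ≃* Matrix.ProjectiveSpecialLinearGroup (Fin 2) L) := by
  classical
  obtain ⟨R, hR⟩ : ∃ R : Subgroup (PGL(Fin 2, L)),
      R = (ProjectiveSpecialLinearGroup.toPGL (n := Fin 2) (R := L)).range := ⟨_, rfl⟩
  let E := lineOf P
  have hEP : ∀ x : Option L, E (P x) = pt x := lineOf_apply P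
  -- elements of the stabilizer
  have hstab : ∀ g : G, g • P none = P none → ∃ γ ∈ R, Compat E g γ := by
    intro g hg
    obtain ⟨c, y, hsq, hc, hcy⟩ := h1 g hg
    refine ⟨ProjGenLinGroup.mk (affM c y hc), hR ▸ affM_mem_range c y hc hsq, fun x => ?_⟩
    obtain ⟨x, rfl⟩ := P.surjective x
    cases x with
    | none => rw [hg, hEP, affM_smul_none]
    | some x => rw [hcy, hEP, hEP, affM_smul_some]
  have hsc : Compat E s (ProjGenLinGroup.mk (swapW w hw)) := by
    intro x
    obtain ⟨x, rfl⟩ := P.surjective x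
    cases x with
    | none => rw [hs0, hEP, hEP, swapW_smul_none]
    | some x =>
      by_cases hx : x = 0
      · rw [hx, hs1, hEP, hEP, swapW_smul_zero]
      · rw [hs x hx, hEP, hEP, swapW_smul_some w hw hx]
  have hsR : (ProjGenLinGroup.mk (swapW w hw) : PGL(Fin 2, L)) ∈ R :=
    hR ▸ swapW_mem_range w hw hm1
  have hall : ∀ g : G, ∃ γ ∈ R, Compat E g γ := by
    intro g
    by_cases hg : g • P none = P none
    · exact hstab g hg
    · obtain ⟨z, hz⟩ := P.surjective (g • P none)
      cases z with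
      | none => exact absurd hz.symm hg
      | some c =>
        obtain ⟨t, hti, ht⟩ := h2 (-c)
        have htc : t • P (some c) = P (some 0) := by
          rw [ht, add_neg_cancel]
        have hk : (s * t * g) • P none = P none := by
          rw [mul_smul, mul_smul, ← hz, htc, hs1]
        obtain ⟨κ, hκR, hκ⟩ := hstab _ hk
        obtain ⟨τ, hτR, hτ⟩ := hstab t hti
        have := (hτ.inv.mul hsc.inv).mul hκ
        have e : t⁻¹ * s⁻¹ * (s * t * g) = g := by group
        rw [e] at this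
        exact ⟨_, R.mul_mem (R.mul_mem (R.inv_mem hτR) (R.inv_mem hsR)) hκR, this⟩
  choose φ hφR hφ using hall
  have key : ∀ (g : G) (γ : PGL(Fin 2, L)), Compat E g γ → φ g = γ := by
    intro g γ hγ
    apply PGL_ext3
    · rw [← E.apply_symm_apply (std L 0), hφ g, hγ]
    · rw [← E.apply_symm_apply (std L 1), hφ g, hγ]
    · rw [← E.apply_symm_apply (std L 2), hφ g, hγ]
  have hmul : ∀ g g', φ (g * g') = φ g * φ g' := fun g g' => key _ _ ((hφ g).mul (hφ g'))
  let Φ : G →* R := MonoidHom.mk' (fun g => ⟨φ g, hφR g⟩) (fun g g' => Subtype.ext (hmul g g'))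
  have hΦ : ∀ g, (Φ g : PGL(Fin 2, L)) = φ g := fun g => rfl
  have hinj : Function.Injective Φ := by
    rw [injective_iff_map_eq_one]
    intro g hg
    apply hfaith
    intro x
    apply E.injective
    rw [← hφ g x, ← hΦ, hg]
    exact one_smul _ _
  -- cardinalities
  have hRcard : Nat.card R = Nat.card (Matrix.ProjectiveSpecialLinearGroup (Fin 2) L) := by
    rw [hR]
    exact (Nat.card_congr (Equiv.ofInjective _
      (ProjectiveSpecialLinearGroup.toPGL_injective (n := Fin 2) (R := L)))).symm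
  have hgcd : Nat.gcd 2 (Fintype.card L - 1) = 2 := by
    obtain ⟨k, hk⟩ := hodd
    rw [hk]
    simp
  have hPSL := Cfsg.Agent.Lib.H2.card_PSL2_mul (F := L)
  rw [hgcd] at hPSL
  have hGR : Nat.card G = Nat.card R := by
    rw [hRcard]
    omega
  have hbij : Function.Bijective Φ := by
    haveI : Finite R := Nat.finite_of_card_ne_zero (by rw [← hGR]; exact Nat.card_pos.ne')
    exact (Nat.bijective_iff_injective_and_card Φ).2 ⟨hinj, hGR⟩
  have e1 : G ≃* R := MulEquiv.ofBijective Φ hbij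
  have e2 : Matrix.ProjectiveSpecialLinearGroup (Fin 2) L ≃* R := by
    rw [hR]
    exact MonoidHom.ofInjective (ProjectiveSpecialLinearGroup.toPGL_injective (n := Fin 2) (R := L))
  exact ⟨e1.trans e2.symm⟩

end main

end Cfsg.Agent.Lib.H4.Zas
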