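import Mathlib
import Cfsg.Agent.Lib.H4.Zas.ModelReg
import Cfsg.Agent.Lib.H2.FrobAct
import Cfsg.Agent.Lib.H8.FrobKernelNil
import Cfsg.Agent.Lib.H8.CNSolv

set_option autoImplicit false

namespace Cfsg.Agent.Lib.H4.Zas.RegNormal

open MulAction

variable {G Ω : Type*} [Group G] [MulAction G Ω]

section basic

variable (N : Subgroup G) [hNn : N.Normal]

include hNn in
theorem conj_mem {n : G} (hn : n ∈ N) (g : G) : g * n * g⁻¹ ∈ N := hNn.conj_mem n hn g

variable (hNr : ∀ a : Ω, stabilizer N a = ⊥)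

omit hNn in
include hNr in
theorem eq_of_smul_eq {a : Ω} {n₁ n₂ : G} (h₁ : n₁ ∈ N) (h₂ : n₂ ∈ N) (h : n₁ • a = n₂ • a) :
    n₁ = n₂ := by
  have h3 : (⟨n₂⁻¹ * n₁, N.mul_mem (N.inv_mem h₂) h₁⟩ : N) ∈ stabilizer N a := by
    rw [mem_stabilizer_iff]
    show (n₂⁻¹ * n₁) • a = a
    rw [mul_smul, h, inv_smul_smul]
  rw [hNr a, Subgroup.mem_bot] at h3
  have h4 : n₂⁻¹ * n₁ = 1 := congrArg Subtype.val h3
  exact (inv_mul_eq_one.1 h4).symm

include hNn hNr in
/-- an element fixing `a` and `n • a` commutes with `n ∈ N` -/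
theorem conj_eq_of_fix {a : Ω} {n : G} (hn : n ∈ N) {g : G} (ha : g • a = a)
    (hx : g • (n • a) = n • a) : g * n * g⁻¹ = n := by
  apply eq_of_smul_eq N hNr (conj_mem N hn g) hn
  have : g⁻¹ • a = a := by rw [inv_smul_eq_iff, ha]
  rw [mul_smul, mul_smul, this, hx]

omit hNn in
/-- an element fixing `a` and commuting with `n ∈ N` fixes `n • a` -/
theorem fix_of_commute {a : Ω} {n : G} {g : G} (ha : g • a = a)
    (hc : g * n = n * g) : g • (n • a) = n • a := by
  rw [← mul_smul, hc, mul_smul, ha]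

end basic


section main

variable [Fintype Ω] [FaithfulSMul G Ω]

omit [Fintype Ω] [FaithfulSMul G Ω] in
theorem two_trans (h2 : IsMultiplyPretransitive G Ω 2) {x y x' y' : Ω} (h : x ≠ y) (h' : x' ≠ y') :
    ∃ g : G, g • x = x' ∧ g • y = y' :=
  (is_two_pretransitive_iff (G := G) (α := Ω)).1 h2 h h'

omit [Fintype Ω] [FaithfulSMul G Ω] in
/-- the regular normal subgroup has exponent two -/
theorem sq_eq_one
    (h2 : IsMultiplyPretransitive G Ω 2)
    (h3 : ∀ g : G, ∀ a b c : Ω, a ≠ b → b ≠ c → a ≠ c → g • a = a → g • b = b → g • c = c → g = 1)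
    (N : Subgroup G) [N.Normal] (hNt : IsPretransitive N Ω)
    (hNr : ∀ a : Ω, stabilizer N a = ⊥)
    {g₀ : G} (hg₀ : g₀ ≠ 1) {a b : Ω} (hab : a ≠ b) (hga : g₀ • a = a) (hgb : g₀ • b = b) :
    ∀ x ∈ N, x * x = 1 := by
  obtain ⟨nb, hnb⟩ := exists_smul_eq N a b
  have hnbN : (nb : G) ∈ N := nb.2
  have hnb' : (nb : G) • a = b := hnb
  have hc : g₀ * nb * g₀⁻¹ = nb := conj_eq_of_fix N hNr hnbN hga (by rw [hnb', hgb])
  have hc' : g₀ * nb = nb * g₀ := mul_inv_eq_iff_eq_mul.1 hc
  have hc2 : g₀ * (nb * nb) = (nb * nb : G) * g₀ := by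
    rw [← mul_assoc, hc', mul_assoc, hc', mul_assoc]
  have hfix2 : g₀ • (((nb : G) * nb) • a) = ((nb : G) * nb) • a := fix_of_commute hga hc2
  have hnb2 : (nb : G) * nb = 1 := by
    by_cases h1 : ((nb : G) * nb) • a = a
    · have := eq_of_smul_eq N hNr (N.mul_mem hnbN hnbN) N.one_mem (by rw [h1, one_smul])
      exact this
    · exfalso
      have h4 : ((nb : G) * nb) • a ≠ b := by
        intro h
        have h5 : (nb : G) • ((nb : G) • a) = (nb : G) • a := by rw [← mul_smul, h, hnb']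
        have h6 := smul_left_cancel _ h5
        exact hab (h6.symm.trans hnb')
      exact hg₀ (h3 g₀ a b _ hab (Ne.symm h4) (Ne.symm h1) hga hgb hfix2)
  intro x hx
  by_cases hx1 : x = 1
  · rw [hx1, one_mul]
  · have hxa : x • a ≠ a := by
      intro h
      exact hx1 (eq_of_smul_eq N hNr hx N.one_mem (by rw [h, one_smul]))
    obtain ⟨k, hka, hkb⟩ := two_trans h2 hab (Ne.symm hxa)
    have hkx : k * nb * k⁻¹ = x := by
      apply eq_of_smul_eq N hNr (conj_mem N hnbN k) hx
      have : k⁻¹ • a = a := by rw [inv_smul_eq_iff, hka]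
      rw [mul_smul, mul_smul, this, hnb', hkb]
    rw [← hkx]
    have : k * ↑nb * k⁻¹ * (k * ↑nb * k⁻¹) = k * (↑nb * ↑nb) * k⁻¹ := by group
    rw [this, hnb2]
    group

end main

section frob

open Cfsg.Agent.Lib.H2.FrobAct

variable [FaithfulSMul G Ω]

theorem frobAct
    (h2 : IsMultiplyPretransitive G Ω 2)
    (h3 : ∀ g : G, ∀ a b c : Ω, a ≠ b → b ≠ c → a ≠ c → g • a = a → g • b = b → g • c = c → g = 1)
    {g₀ : G} (hg₀ : g₀ ≠ 1) {a b : Ω} (hab : a ≠ b) (hga : g₀ • a = a) (hgb : g₀ • b = b) :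
    IsFrobAct (stabilizer G a) {x : Ω | x ≠ a} := by
  refine ⟨?_, ?_, ?_, ?_, ?_⟩
  · intro g x hx h
    apply hx
    have hg : (g : G) • a = a := g.2
    have h' : (g : G) • x = a := h
    exact smul_left_cancel (g : G) (h'.trans hg.symm)
  · intro x hx y hy
    obtain ⟨k, hka, hkx⟩ := two_trans h2 (Ne.symm hx) (Ne.symm hy)
    exact ⟨⟨k, hka⟩, hkx⟩
  · intro x hx
    obtain ⟨k, hka, hkb⟩ := two_trans h2 hab (Ne.symm hx)
    have hka' : k⁻¹ • a = a := by rw [inv_smul_eq_iff, hka]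
    have hkb' : k⁻¹ • x = b := by rw [inv_smul_eq_iff, hkb]
    refine ⟨⟨k * g₀ * k⁻¹, ?_⟩, ?_, ?_⟩
    · rw [mem_stabilizer_iff, mul_smul, mul_smul, hka', hga, hka]
    · intro h
      have h' : k * g₀ * k⁻¹ = 1 := congrArg Subtype.val h
      apply hg₀
      have : g₀ = k⁻¹ * (k * g₀ * k⁻¹) * k := by group
      rw [this, h']
      group
    · show (k * g₀ * k⁻¹) • x = x
      rw [mul_smul, mul_smul, hkb', hgb, hkb]
  · intro x hx y hy hxy g hgx hgy
    have hg : (g : G) • a = a := g.2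
    have := h3 (g : G) a x y (Ne.symm hx) hxy (Ne.symm hy) hg hgx hgy
    exact Subtype.ext this
  · obtain ⟨c, hc⟩ : ∃ c : Ω, g₀ • c ≠ c := by
      by_contra hcon
      push Not at hcon
      apply hg₀
      apply FaithfulSMul.eq_of_smul_eq_smul (α := Ω)
      intro c
      rw [hcon c, one_smul]
    refine ⟨b, Ne.symm hab, c, ?_, ?_⟩
    · intro h
      have h' : c = a := h
      rw [h'] at hc
      exact hc hga
    · intro h
      rw [← h] at hc
      exact hc hgb

end frob

section final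

open Cfsg.Agent.Lib.H2.FrobAct

variable [Fintype Ω] [FaithfulSMul G Ω]

theorem degree_two_pow_prime
    (h2 : IsMultiplyPretransitive G Ω 2)
    (h3 : ∀ g : G, ∀ a b c : Ω, a ≠ b → b ≠ c → a ≠ c → g • a = a → g • b = b → g • c = c → g = 1)
    (hfix : ∃ g : G, g ≠ 1 ∧ ∃ a b : Ω, a ≠ b ∧ g • a = a ∧ g • b = b)
    (N : Subgroup G) [hNn : N.Normal] (hNt : IsPretransitive N Ω)
    (hNr : ∀ a : Ω, stabilizer N a = ⊥) :
    ∃ p : ℕ, p.Prime ∧ Fintype.card Ω = 2 ^ p := by
  classical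
  haveI : Finite G := Finite.of_injective (MulAction.toPermHom G Ω) MulAction.toPerm_injective
  obtain ⟨g₀, hg₀, a, b, hab, hga, hgb⟩ := hfix
  have hsq := sq_eq_one h2 h3 N hNt hNr hg₀ hab hga hgb
  have hF := frobAct h2 h3 hg₀ hab hga hgb
  -- cardinalities
  have hNcard : Nat.card N = Fintype.card Ω := by
    rw [← Nat.card_eq_fintype_card]
    apply Nat.card_eq_of_bijective (fun n : N => (n : G) • a)
    constructor
    · intro n₁ n₂ h
      exact Subtype.ext (eq_of_smul_eq N hNr n₁.2 n₂.2 h)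
    · intro x
      obtain ⟨n, hn⟩ := exists_smul_eq N a x
      exact ⟨n, hn⟩
  have hΔcard : ({x : Ω | x ≠ a} : Set Ω).ncard + 1 = Fintype.card Ω := by
    have : ({x : Ω | x ≠ a} : Set Ω) = ({a} : Set Ω)ᶜ := by
      ext x
      simp
    rw [this, Set.ncard_compl, Set.ncard_singleton, Nat.card_eq_fintype_card]
    have : 0 < Fintype.card Ω := Fintype.card_pos_iff.2 ⟨a⟩
    omega
  have hM₀card : Nat.card (FK hF) + 1 = Fintype.card Ω := by rw [card_FK, hΔcard]
  -- the kernel as a subgroup of `G`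
  obtain ⟨M, hMdef⟩ : ∃ M : Subgroup G, M = (FK hF).map (stabilizer G a).subtype := ⟨_, rfl⟩
  have hMmem : ∀ m : G, m ∈ M ↔ ∃ hm : m • a = a, (⟨m, hm⟩ : stabilizer G a) ∈ FK hF := by
    intro m
    rw [hMdef, Subgroup.mem_map]
    constructor
    · rintro ⟨x, hx, rfl⟩
      exact ⟨x.2, hx⟩
    · rintro ⟨hm, hx⟩
      exact ⟨⟨m, hm⟩, hx, rfl⟩
  have hMa : ∀ m ∈ M, m • a = a := fun m hm => ((hMmem m).1 hm).1
  have hMfree : ∀ m ∈ M, ∀ x : Ω, x ≠ a → m • x = x → m = 1 := by
    intro m hm x hx hmx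
    obtain ⟨hma, hmF⟩ := (hMmem m).1 hm
    have := eq_one_of_mem_FK_of_smul_eq hF hmF (y := x) hx hmx
    exact congrArg Subtype.val this
  have hMtrans : ∀ x y : Ω, x ≠ a → y ≠ a → ∃ m ∈ M, m • x = y := by
    intro x y hx hy
    obtain ⟨u, hu, hxy⟩ := FK_transitive hF (y := x) (z := y) hx hy
    exact ⟨(u : G), (hMmem _).2 ⟨u.2, hu⟩, hxy⟩
  have hMcard : Nat.card M + 1 = Nat.card N := by
    rw [hNcard, ← hM₀card, hMdef]
    congr 1
    exact (Nat.card_congr ((FK hF).equivMapOfInjective _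
      (Subgroup.subtype_injective _)).toEquiv).symm
  have hMnorm : ∀ g : G, g • a = a → ∀ m ∈ M, g * m * g⁻¹ ∈ M := by
    intro g hg m hm
    obtain ⟨hma, hmF⟩ := (hMmem m).1 hm
    rw [hMmem]
    have hg' : g⁻¹ • a = a := by rw [inv_smul_eq_iff, hg]
    refine ⟨by rw [mul_smul, mul_smul, hg', hma, hg], ?_⟩
    have := (FK_normal hF).conj_mem ⟨m, hma⟩ hmF ⟨g, hg⟩
    exact this
  -- the kernel is nilpotent (Thompson)
  have hnil₀ : Group.IsNilpotent (FK hF) := by
    apply Cfsg.Agent.Lib.H8.nilpotent_of_kernel_type (FK hF)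
    · intro htop
      have : (⟨g₀, hga⟩ : stabilizer G a) ∈ FK hF := by rw [htop]; trivial
      have h1 := eq_one_of_mem_FK_of_smul_eq hF this (y := b) (Ne.symm hab) hgb
      exact hg₀ (congrArg Subtype.val h1)
    · intro m hm hm1 u hu
      rw [Subgroup.mem_centralizer_iff] at hu
      have hum : m * u = u * m := hu m rfl
      rw [mem_FK_iff]
      by_contra hcon
      push Not at hcon
      obtain ⟨hu1, y, hy, huy⟩ := hcon
      have hmy : m • y ≠ y := by
        rcases (mem_FK_iff hF m).1 hm with h | h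
        · exact absurd h hm1
        · exact h y hy
      have hmyΔ : m • y ∈ {x : Ω | x ≠ a} := hF.inv m y hy
      have hu2 : u • (m • y) = m • y := by
        rw [← mul_smul, ← hum, mul_smul, huy]
      exact hu1 (hF.two y hy (m • y) hmyΔ (Ne.symm hmy) u huy hu2)
  have hnil : Group.IsNilpotent M := by
    rw [hMdef]
    haveI := hnil₀
    exact Group.nilpotent_of_mulEquiv ((FK hF).equivMapOfInjective _ (Subgroup.subtype_injective _))
  -- `M` acts without fixed points on `N`
  have hfpf : ∀ d ∈ M, d ≠ 1 → N ⊓ Subgroup.centralizer {d} = ⊥ := by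
    intro d hd hd1
    rw [eq_bot_iff]
    rintro x ⟨hxN, hxc⟩
    rw [Subgroup.mem_bot]
    replace hxN : x ∈ N := hxN
    replace hxc : x ∈ Subgroup.centralizer {d} := hxc
    rw [Subgroup.mem_centralizer_iff] at hxc
    have hdx : d * x = x * d := hxc d rfl
    have h1 : d • (x • a) = x • a := fix_of_commute (hMa d hd) hdx
    by_contra hx1
    have hxa : x • a ≠ a := fun h =>
      hx1 (eq_of_smul_eq N hNr hxN N.one_mem (by rw [h, one_smul]))
    exact hd1 (hMfree d hd _ hxa h1)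
  have hNbot : N ≠ ⊥ := by
    intro h
    have hall : ∀ x ∈ N, x = 1 := fun x hx => by
      rw [h] at hx
      exact Subgroup.mem_bot.1 hx
    obtain ⟨nb, hnb⟩ := exists_smul_eq N a b
    have h' : (nb : G) • a = b := hnb
    have h1 : (nb : G) = 1 := hall _ nb.2
    rw [h1, one_smul] at h'
    exact hab h'
  have hN2 : IsPGroup 2 N := by
    intro x
    refine ⟨1, ?_⟩
    apply Subtype.ext
    have := hsq x x.2
    rw [pow_one, pow_two]
    exact this
  obtain ⟨k, hk⟩ := IsPGroup.iff_card.1 hN2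
  have hk0 : k ≠ 0 := by
    rintro rfl
    rw [pow_zero] at hk
    have hM0 : 0 < Nat.card M := Nat.card_pos
    omega
  have hMnormN : M ≤ Subgroup.normalizer (N : Set G) := by
    rw [Subgroup.normalizer_eq_top]
    exact le_top
  have hModd : Odd (Nat.card M) := by
    have : Even (Nat.card N) := by
      rw [hk]
      exact (Nat.even_pow' hk0).2 even_two
    rcases Nat.even_or_odd (Nat.card M) with h | h
    · exfalso
      rw [← hMcard] at this
      have := (Nat.even_add_one).1 this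
      exact this h
    · exact h
  have hMcyc : IsCyclic M :=
    Cfsg.Agent.Lib.H8.isCyclic_of_fpf_nilpotent_odd hNbot hMnormN hfpf hnil hModd
  -- field model
  obtain ⟨nb, hnb⟩ := exists_smul_eq N a b
  have hnb' : (nb : G) • a = b := hnb
  have hnb1 : nb ≠ 1 := by
    intro h
    rw [h, Subgroup.coe_one, one_smul] at hnb'
    exact hab hnb'
  let φ : M →* MulAut N := (MulAut.conjNormal (H := N)).comp M.subtype
  have hφ : ∀ (m : M) (u : N), ((φ m u : N) : G) = (m : G) * u * (m : G)⁻¹ := fun m u => rfl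
  have hNc : ∀ x y : N, x * y = y * x := by
    intro x y
    apply Subtype.ext
    show (x : G) * y = y * x
    have hinv : ∀ z ∈ N, z⁻¹ = z := fun z hz => inv_eq_of_mul_eq_one_left (hsq z hz)
    have h1 := hinv _ (N.mul_mem x.2 y.2)
    rw [mul_inv_rev, hinv _ x.2, hinv _ y.2] at h1
    exact h1.symm
  have hMc : ∀ x y : M, x * y = y * x := by
    intro x y
    haveI := hMcyc
    exact (IsCyclic.commGroup (α := M)).mul_comm x y
  have hexp : ∀ u : N, u ^ 2 = 1 := by
    intro u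
    apply Subtype.ext
    rw [pow_two]
    exact hsq u u.2
  have hfree : ∀ m : M, ∀ u : N, φ m u = u → u ≠ 1 → m = 1 := by
    intro m u hmu hu1
    have h1 : (m : G) * u * (m : G)⁻¹ = u := by rw [← hφ, hmu]
    have h2 : (m : G) * u = u * m := mul_inv_eq_iff_eq_mul.1 h1
    have h4 : (m : G) • ((u : G) • a) = (u : G) • a := fix_of_commute (hMa m m.2) h2
    have hua : (u : G) • a ≠ a := fun h =>
      hu1 (Subtype.ext ((eq_of_smul_eq N hNr u.2 N.one_mem (by rw [h, one_smul])).trans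
        (Subgroup.coe_one N).symm))
    exact Subtype.ext (hMfree m m.2 _ hua h4)
  obtain ⟨L, fL, finL, ι, e, he, hadd, hι, he1⟩ :=
    exists_field_of_regular hNc hMc 2 hexp φ hfree hMcard nb hnb1
  have he0 : e 0 = 1 := by
    have := hadd 0 0
    rw [add_zero] at this
    exact (mul_eq_left.1 this.symm)
  have hLcard : Nat.card L = Fintype.card Ω := by
    rw [← hNcard]
    exact Nat.card_eq_of_bijective e he
  -- every non-zero element of `L` is an `ι m`
  have hsurj : ∀ y : L, y ≠ 0 → ∃ m : M, ι m = y := by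
    intro y hy
    have hey : e y ≠ 1 := fun h => hy (he.1 (h.trans he0.symm))
    have hua : ((e y : N) : G) • a ≠ a := fun h =>
      hey (Subtype.ext ((eq_of_smul_eq N hNr (e y).2 N.one_mem (by rw [h, one_smul])).trans
        (Subgroup.coe_one N).symm))
    obtain ⟨m, hm, hmb⟩ := hMtrans b _ (Ne.symm hab) hua
    refine ⟨⟨m, hm⟩, ?_⟩
    apply he.1
    have h1 := hι ⟨m, hm⟩ 1
    rw [mul_one, he1] at h1
    rw [h1]
    apply Subtype.ext
    rw [hφ]
    apply eq_of_smul_eq N hNr (conj_mem N nb.2 m) (e y).2 (a := a)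
    have : m⁻¹ • a = a := by rw [inv_smul_eq_iff, hMa m hm]
    rw [mul_smul, mul_smul, this, hnb', hmb]
  -- an element of prime order fixing `a` and `b`
  have ho1 : orderOf g₀ ≠ 1 := fun h => hg₀ (orderOf_eq_one_iff.1 h)
  have ho0 : orderOf g₀ ≠ 0 := (orderOf_pos g₀).ne'
  obtain ⟨r, hrdef⟩ : ∃ r : ℕ, r = (orderOf g₀).minFac := ⟨_, rfl⟩
  have hr : r.Prime := by rw [hrdef]; exact Nat.minFac_prime ho1
  obtain ⟨σ, hσdef⟩ : ∃ σ : G, σ = g₀ ^ (orderOf g₀ / r) := ⟨_, rfl⟩
  have hσr : orderOf σ = r := by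
    rw [hσdef]
    exact orderOf_pow_orderOf_div ho0 (by rw [hrdef]; exact Nat.minFac_dvd _)
  have hσ1 : σ ≠ 1 := by
    intro h
    rw [h, orderOf_one] at hσr
    exact hr.one_lt.ne hσr
  have hσa : σ • a = a := by
    have : σ ∈ stabilizer G a := by
      rw [hσdef]
      exact Subgroup.pow_mem _ hga _
    exact this
  have hσb : σ • b = b := by
    have : σ ∈ stabilizer G b := by
      rw [hσdef]
      exact Subgroup.pow_mem _ hgb _
    exact this
  -- conjugation as ring automorphisms of `L`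
  let c : G →* MulAut N := MulAut.conjNormal (H := N)
  have hc : ∀ (g : G) (u : N), ((c g u : N) : G) = g * u * g⁻¹ := fun g u => rfl
  let E : L ≃ N := Equiv.ofBijective e he
  obtain ⟨S, hSdef⟩ : ∃ S : Subgroup G, S = stabilizer G a ⊓ stabilizer G b := ⟨_, rfl⟩
  have hSa : ∀ g ∈ S, g • a = a := by
    intro g hg
    rw [hSdef] at hg
    exact hg.1
  have hSb : ∀ g ∈ S, g • b = b := by
    intro g hg
    rw [hSdef] at hg
    exact hg.2
  have hσS : σ ∈ S := by
    rw [hSdef]
    exact ⟨hσa, hσb⟩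
  have hcnb : ∀ g ∈ S, c g nb = nb := by
    intro g hg
    apply Subtype.ext
    rw [hc]
    exact conj_eq_of_fix N hNr nb.2 (hSa g hg) (by rw [hnb', hSb g hg])
  let τf : G → L → L := fun g x => E.symm (c g (e x))
  have hτf : ∀ g x, e (τf g x) = c g (e x) := fun g x => E.apply_symm_apply _
  have hτadd : ∀ g x y, τf g (x + y) = τf g x + τf g y := by
    intro g x y
    apply he.1
    rw [hτf, hadd, map_mul, hadd, hτf, hτf]
  have hτ1 : ∀ g ∈ S, τf g 1 = 1 := by
    intro g hg
    apply he.1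
    rw [hτf, he1, hcnb g hg]
  have hτ0 : ∀ g, τf g 0 = 0 := by
    intro g
    apply he.1
    rw [hτf, he0, map_one]
  have hτι : ∀ g (hg : g ∈ S) (m : M) (x : L),
      τf g (ι m * x) = ι ⟨g * m * g⁻¹, hMnorm g (hSa g hg) m m.2⟩ * τf g x := by
    intro g hg m x
    apply he.1
    rw [hτf, hι, hι, hτf]
    apply Subtype.ext
    rw [hc, hφ, hφ, hc]
    show g * ((m : G) * (e x : G) * (m : G)⁻¹) * g⁻¹ =
      (g * (m : G) * g⁻¹) * (g * (e x : G) * g⁻¹) * (g * (m : G) * g⁻¹)⁻¹
    group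
  have hτmul : ∀ g ∈ S, ∀ y x, τf g (y * x) = τf g y * τf g x := by
    intro g hg y x
    by_cases hy : y = 0
    · rw [hy, zero_mul, hτ0, zero_mul]
    · obtain ⟨m, rfl⟩ := hsurj y hy
      have h1 := hτι g hg m 1
      rw [mul_one, hτ1 g hg, mul_one] at h1
      rw [hτι g hg m x, h1]
  have hτcomp : ∀ g h x, τf (g * h) x = τf g (τf h x) := by
    intro g h x
    apply he.1
    rw [hτf, hτf, hτf, map_mul]
    rfl
  have hτone : ∀ x, τf 1 x = x := by
    intro x
    apply he.1
    rw [hτf, map_one]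
    rfl
  let ψf : S → RingAut L := fun g =>
    { toFun := τf g
      invFun := τf ((g : G)⁻¹)
      left_inv := fun x => by rw [← hτcomp, inv_mul_cancel, hτone]
      right_inv := fun x => by rw [← hτcomp, mul_inv_cancel, hτone]
      map_mul' := hτmul g g.2
      map_add' := hτadd g }
  have hψf : ∀ (g : S) (x : L), ψf g x = τf g x := fun g x => rfl
  let ψ : S →* RingAut L := MonoidHom.mk' ψf (by
    intro g h
    apply RingEquiv.ext
    intro x
    rw [RingAut.mul_apply, hψf, hψf, hψf]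
    exact hτcomp g h x)
  have hψ : ∀ (g : S) (x : L), ψ g x = τf g x := fun g x => rfl
  obtain ⟨τ, hτdef⟩ : ∃ τ : RingAut L, τ = ψ ⟨σ, hσS⟩ := ⟨_, rfl⟩
  have hτ : ∀ x, τ x = τf σ x := fun x => by rw [hτdef]; rfl
  -- fixed points of `τ`
  have hτfix : ∀ x : L, τ x = x → x = 0 ∨ x = 1 := by
    intro x hx
    rw [hτ] at hx
    have h1 : c σ (e x) = e x := by rw [← hτf, hx]
    have h2 : σ * (e x : G) * σ⁻¹ = (e x : G) := by rw [← hc, h1]
    have h4 : σ • ((e x : G) • a) = (e x : G) • a :=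
      fix_of_commute hσa (mul_inv_eq_iff_eq_mul.1 h2)
    by_cases hxa : (e x : G) • a = a
    · left
      apply he.1
      rw [he0]
      exact Subtype.ext ((eq_of_smul_eq N hNr (e x).2 N.one_mem (by rw [hxa, one_smul])).trans
        (Subgroup.coe_one N).symm)
    · by_cases hxb : (e x : G) • a = b
      · right
        apply he.1
        rw [he1]
        exact Subtype.ext (eq_of_smul_eq N hNr (e x).2 nb.2 (by rw [hxb, hnb']))
      · exfalso
        exact hσ1 (h3 σ a b _ hab (Ne.symm hxb) (Ne.symm hxa) hσa hσb h4)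
  -- the order of `τ`
  have hτne : τ ≠ 1 := by
    intro h
    apply hσ1
    apply FaithfulSMul.eq_of_smul_eq_smul (α := Ω)
    intro ω
    rw [one_smul]
    obtain ⟨n, hn⟩ := exists_smul_eq N a ω
    have hn' : (n : G) • a = ω := hn
    obtain ⟨x, hx⟩ := he.2 n
    have h1 : τ x = x := by rw [h]; rfl
    rw [hτ] at h1
    have h2 : c σ (e x) = e x := by rw [← hτf, h1]
    have h4 : σ * (e x : G) * σ⁻¹ = (e x : G) := by rw [← hc, h2]
    rw [hx] at h4
    rw [← hn']
    exact fix_of_commute hσa (mul_inv_eq_iff_eq_mul.1 h4)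
  have hτr : orderOf τ = r := by
    have h1 : orderOf τ ∣ r := by
      rw [hτdef, ← hσr, ← Subgroup.orderOf_mk σ hσS]
      exact orderOf_map_dvd ψ _
    rcases (Nat.dvd_prime hr).1 h1 with h | h
    · exact absurd (orderOf_eq_one_iff.1 h) hτne
    · exact h
  -- Artin's theorem for the group generated by `τ`
  obtain ⟨H', hH'def⟩ : ∃ H' : Subgroup (RingAut L), H' = Subgroup.zpowers τ := ⟨_, rfl⟩
  haveI : Finite (RingAut L) :=
    Finite.of_injective (fun f : RingAut L => (f : L → L)) DFunLike.coe_injective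
  haveI : Fintype H' := Fintype.ofFinite _
  have hcardH : Fintype.card H' = r := by
    rw [← Nat.card_eq_fintype_card, hH'def, Nat.card_zpowers, hτr]
  have hfin := FixedPoints.finrank_eq_card H' L
  have hK2 : Nat.card (FixedPoints.subfield H' L) = 2 := by
    rw [Nat.card_eq_two_iff]
    refine ⟨0, 1, zero_ne_one, ?_⟩
    ext x
    simp only [Set.mem_insert_iff, Set.mem_singleton_iff, Set.mem_univ, iff_true]
    have hx : τ (x : L) = x := by
      have hx2 := x.2
      have hτH : τ ∈ H' := by rw [hH'def]; exact Subgroup.mem_zpowers τ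
      exact hx2 ⟨τ, hτH⟩
    rcases hτfix _ hx with h | h
    · left; exact Subtype.ext h
    · right; exact Subtype.ext h
  have hfinal := Module.natCard_eq_pow_finrank (K := FixedPoints.subfield H' L) (V := L)
  rw [hK2, hfin, hcardH, hLcard] at hfinal
  exact ⟨r, hr, hfinal⟩

end final
end Cfsg.Agent.Lib.H4.Zas.RegNormal
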